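import Mathlib
import Groth.Prelude
import Groth.Agent.H4.KosBC
import Groth.Agent.Lib.Helper2.Kos5

set_option autoImplicit false
set_option linter.style.haveILetI false

universe u

open CategoryTheory CategoryTheory.Limits

attribute [local instance] HasDerivedCategory.standard

namespace Groth.Agent.H8.RGCI

open DRing DerivedCategory Groth.Agent.H4.FB2 Groth.Agent.H4.KS1 Groth.Agent.H4.KosBC

section unit

variable {A : Type u} [CommRing A]

theorem nonempty_homotopy_koszul_of_mem (xs : List A) (x : A) (hx : x ∈ xs) :
    Nonempty (Homotopy (x • 𝟙 (Koszul.koszul A xs)) 0) := by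
  induction xs with
  | nil => simp at hx
  | cons f fs ih =>
    rcases List.mem_cons.mp hx with rfl | hx'
    · exact ⟨Groth.Agent.H2.Kos.homotopyHead (Koszul.koszul A fs) x⟩
    · obtain ⟨h⟩ := ih hx'
      exact ⟨Groth.Agent.H2.Kos.homotopyTail (Koszul.koszul A fs) f x h⟩

/-- If the `xs` generate the unit ideal, the Koszul complex is acyclic. -/
theorem isZero_homology_koszul_of_span_eq_top (xs : List A)
    (h : Ideal.span {x | x ∈ xs} = ⊤) (n : ℤ) : IsZero ((Koszul.koszul A xs).homology n) := by
  obtain ⟨ho⟩ := Groth.Agent.H2.Kos.nonempty_homotopy_of_mem_span (Koszul.koszul A xs)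
    {x | x ∈ xs}
    (fun x hx => nonempty_homotopy_koszul_of_mem xs x hx) 1 (by rw [h]; exact Submodule.mem_top)
  rw [IsZero.iff_id_eq_zero, ← HomologicalComplex.homologyMap_id]
  have h1 : (1 : A) • 𝟙 (Koszul.koszul A xs) = 𝟙 _ := one_smul _ _
  rw [← h1, ho.homologyMap_eq n, HomologicalComplex.homologyMap_zero]

theorem isKoszulRegularSeq_of_span_eq_top (xs : List A)
    (h : Ideal.span {x | x ∈ xs} = ⊤) : LCI.IsKoszulRegularSeq A xs :=
  fun n _ => isZero_homology_koszul_of_span_eq_top xs h n

end unit

section module

variable {A : Type u} [CommRing A] (M : Type u) [AddCommGroup M] [Module A M]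

/-- a module whose localizations at a family generating the unit ideal vanish is zero. -/
theorem subsingleton_of_span (s : Set A) (hs : Ideal.span s = ⊤)
    (h : ∀ g ∈ s, ∀ m : M, ∃ k : ℕ, g ^ k • m = 0) : Subsingleton M := by
  refine ⟨fun a b => ?_⟩
  suffices H : ∀ m : M, m = 0 by rw [H a, H b]
  intro m
  have htop : Ideal.torsionOf A M m = ⊤ := by
    by_contra hne
    obtain ⟨𝔪, h𝔪, hle⟩ := Ideal.exists_le_maximal _ hne
    have hsub : s ⊆ 𝔪 := by
      intro g hg
      obtain ⟨k, hk⟩ := h g hg m
      have : g ^ k ∈ 𝔪 := hle ((Ideal.mem_torsionOf_iff m _).mpr hk)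
      exact h𝔪.isPrime.mem_of_pow_mem k this
    exact h𝔪.ne_top (top_le_iff.mp (hs ▸ Ideal.span_le.mpr hsub))
  have h1 : (1 : A) ∈ Ideal.torsionOf A M m := htop ▸ Submodule.mem_top
  simpa using (Ideal.mem_torsionOf_iff m 1).mp h1

end module

end Groth.Agent.H8.RGCI

namespace Groth.Agent.H8.RGCI
open CategoryTheory CategoryTheory.Limits
open DRing DerivedCategory Groth.Agent.H4.FB2 Groth.Agent.H4.KS1 Groth.Agent.H4.KosBC

section l2g

variable {A : Type u} [CommRing A]

/-- converse of flat base change on homology: if the base-changed sequence is Koszul-regular,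
the base change of the Koszul homology vanishes. -/
theorem isZero_extendScalars_homology {B : Type u} [CommRing B] [Algebra A B] [Module.Flat A B]
    (l : List A) (hl : LCI.IsKoszulRegularSeq B (l.map (algebraMap A B))) (i : ℤ) (hi : i ≠ 0) :
    IsZero ((ModuleCat.extendScalars.{u, u, u} (algebraMap A B)).obj
      ((Koszul.koszul A l).homology i)) := by
  obtain ⟨e⟩ := nonempty_E_kos_iso (B := B) l
  have h3 : IsZero ((homologyFunctor (ModuleCat.{u} B) i).obj (kos (l.map (algebraMap A B)))) :=
    (hl i hi).of_iso ((homologyFunctorFactors (ModuleCat.{u} B) i).app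
      (Koszul.koszul B (l.map (algebraMap A B))))
  have h2 : IsZero ((homologyFunctor (ModuleCat.{u} B) i).obj ((E A B).obj (kos l))) :=
    h3.of_iso ((homologyFunctor (ModuleCat.{u} B) i).mapIso e)
  have h1 : IsZero ((ModuleCat.extendScalars.{u, u, u} (algebraMap A B)).obj
      ((homologyFunctor (ModuleCat.{u} A) i).obj (kos l))) :=
    h2.of_iso (homologyEIso (kos l) i).symm
  exact h1.of_iso ((ModuleCat.extendScalars.{u, u, u} (algebraMap A B)).mapIso
    ((homologyFunctorFactors (ModuleCat.{u} A) i).app (Koszul.koszul A l))).symm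

/-- **Koszul-regularity is local**: it can be checked on a family of basic opens covering the
spectrum. -/
theorem isKoszulRegularSeq_of_span (l : List A) (s : Set A) (hs : Ideal.span s = ⊤)
    (h : ∀ g ∈ s, LCI.IsKoszulRegularSeq (Localization.Away g)
      (l.map (algebraMap A (Localization.Away g)))) :
    LCI.IsKoszulRegularSeq A l := by
  intro i hi
  haveI : Subsingleton ((Koszul.koszul A l).homology i) := by
    apply subsingleton_of_span _ s hs
    intro g hg m
    have hz := isZero_extendScalars_homology (B := Localization.Away g) l (h g hg) i hi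
    haveI : Subsingleton (TensorProduct A (Localization.Away g)
        ((Koszul.koszul A l).homology i)) := by
      haveI := ModuleCat.subsingleton_of_isZero hz
      exact (Groth.Agent.H8.ExtBridge.extEquiv (A := A) (B := Localization.Away g)
        ((Koszul.koszul A l).homology i)).symm.injective.subsingleton
    have h0 : TensorProduct.mk A (Localization.Away g) ((Koszul.koszul A l).homology i) 1 m = 0 :=
      Subsingleton.elim _ _
    obtain ⟨⟨_, k, rfl⟩, hc⟩ := (IsLocalizedModule.eq_zero_iff (Submonoid.powers g)
      (TensorProduct.mk A (Localization.Away g) ((Koszul.koszul A l).homology i) 1)).mp h0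
    exact ⟨k, hc⟩
  exact ModuleCat.isZero_of_subsingleton _

end l2g

end Groth.Agent.H8.RGCI
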