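import Mathlib
import Groth.Agent.Lib.Helper8.Synt.FibGens

set_option autoImplicit false
set_option linter.style.haveILetI false

namespace Groth.Agent.H8.RGCI

open Groth.Agent.H8.Synt

variable {A B : Type*} [CommRing A] [CommRing B] (e : A ≃+* B) (Q' : Ideal B) [Q'.IsPrime]
  (Q : Ideal A) [Q.IsPrime] (hQ : Q = Q'.comap (e : A →+* B))

lemma localRingEquiv_algebraMap (a : A) :
    Localization.localRingEquiv Q Q' e hQ (algebraMap A (Localization.AtPrime Q) a) =
      algebraMap B (Localization.AtPrime Q') (e a) :=
  Localization.localRingHom_to_map Q Q' (e : A →+* B) hQ a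

include hQ in
theorem isRegular_localization_of_ringEquiv (l : List A)
    (h : RingTheory.Sequence.IsRegular (Localization.AtPrime Q)
      (l.map (algebraMap A (Localization.AtPrime Q)))) :
    RingTheory.Sequence.IsRegular (Localization.AtPrime Q')
      (l.map (fun a => algebraMap B (Localization.AtPrime Q') (e a))) := by
  have h2 := isRegular_map_ringEquiv (R := Localization.AtPrime Q)
    (R' := Localization.AtPrime Q') (Localization.localRingEquiv Q Q' e hQ) _ h
  rw [List.map_map] at h2
  have h3 : (fun a => algebraMap B (Localization.AtPrime Q') (e a)) =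
      (⇑(Localization.localRingEquiv Q Q' e hQ) ∘ ⇑(algebraMap A (Localization.AtPrime Q))) := by
    funext a
    exact (localRingEquiv_algebraMap e Q' Q hQ a).symm
  rw [h3]
  exact h2

end Groth.Agent.H8.RGCI
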