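import Mathlib
import Groth.Prelude
import Groth.Agent.Lib.Helper8.Synt.FibGens
import Groth.Agent.Lib.Helper8.GCI.CM
import Groth.Agent.Lib.Helper8.RGCI.LocEq

set_option autoImplicit false
set_option linter.style.haveILetI false

universe u

open TensorProduct Algebra MvPolynomial

namespace Groth.Agent.H8.RGCI

open Groth.Agent.H6 Groth.Agent.H8.LCI Groth.Agent.H8.GCI Groth.Agent.H8.Synt

variable {R : Type u} [CommRing R] {n c : ℕ} (F : Fin c → MvPolynomial (Fin n) R)
  (p : Ideal R) [p.IsPrime]

/-- the reductions of the equations to the fibre. -/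
noncomputable def Fbar : Fin c → MvPolynomial (Fin n) p.ResidueField :=
  fun i => MvPolynomial.map (algebraMap R p.ResidueField) (F i)

/-- `κ(p) ⊗ R[x] ≃ κ(p)[x]`. -/
noncomputable abbrev eT : p.Fiber (MvPolynomial (Fin n) R) ≃ₐ[p.ResidueField]
    MvPolynomial (Fin n) p.ResidueField :=
  MvPolynomial.algebraTensorAlgEquiv R p.ResidueField (σ := Fin n)

lemma eT_one_tmul (f : MvPolynomial (Fin n) R) :
    eT (n := n) p (1 ⊗ₜ[R] f) = MvPolynomial.map (algebraMap R p.ResidueField) f := by
  rw [MvPolynomial.algebraTensorAlgEquiv_tmul, one_smul]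

lemma map_eT_span :
    ((Ideal.span (Set.range F)).map (Algebra.TensorProduct.includeRight :
      MvPolynomial (Fin n) R →ₐ[R] p.Fiber (MvPolynomial (Fin n) R))).map
      (eT (n := n) p : p.Fiber (MvPolynomial (Fin n) R) →+* MvPolynomial (Fin n) p.ResidueField) =
    JJ (Fbar F p) := by
  have h2 : (Ideal.span (Set.range F)).map (Algebra.TensorProduct.includeRight :
      MvPolynomial (Fin n) R →ₐ[R] p.Fiber (MvPolynomial (Fin n) R)) =
      (Ideal.span (Set.range F)).map (Algebra.TensorProduct.includeRight :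
      MvPolynomial (Fin n) R →ₐ[R] p.Fiber (MvPolynomial (Fin n) R)).toRingHom := rfl
  rw [h2, Ideal.map_map, Ideal.map_span]
  unfold JJ
  congr 1
  ext x
  simp only [Set.mem_image, Set.mem_range]
  constructor
  · rintro ⟨_, ⟨i, rfl⟩, rfl⟩
    exact ⟨i, (eT_one_tmul p (F i)).symm⟩
  · rintro ⟨i, rfl⟩
    exact ⟨F i, ⟨i, rfl⟩, eT_one_tmul p (F i)⟩

/-- the fibre of the quotient is the quotient of the polynomial ring over the residue field. -/
noncomputable def fibQuotEquiv :
    p.Fiber (MvPolynomial (Fin n) R ⧸ Ideal.span (Set.range F)) ≃+*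
      (MvPolynomial (Fin n) p.ResidueField ⧸ JJ (Fbar F p)) :=
  (Algebra.TensorProduct.tensorQuotientEquiv (R := R) p.ResidueField (MvPolynomial (Fin n) R)
    p.ResidueField (Ideal.span (Set.range F))).toRingEquiv.trans
    (Ideal.quotientEquiv _ _ (eT (n := n) p).toRingEquiv (map_eT_span F p).symm)

end Groth.Agent.H8.RGCI

namespace Groth.Agent.H8.RGCI
open TensorProduct Algebra MvPolynomial
open Groth.Agent.H6 Groth.Agent.H8.LCI Groth.Agent.H8.GCI Groth.Agent.H8.Synt

variable {R : Type u} [CommRing R] {n c : ℕ} (F : Fin c → MvPolynomial (Fin n) R)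
  (p : Ideal R) [p.IsPrime] (P' : Ideal (p.Fiber (MvPolynomial (Fin n) R))) [P'.IsPrime]

/-- the prime of `κ(p)[x]` corresponding to `P'`. -/
noncomputable abbrev Qbar : Ideal (MvPolynomial (Fin n) p.ResidueField) :=
  P'.comap ((eT (n := n) p).symm.toRingEquiv : MvPolynomial (Fin n) p.ResidueField →+* _)

instance : (Qbar p P').IsPrime := Ideal.comap_isPrime _ _

lemma JJ_le_Qbar (hF : Ideal.span (Set.range F) ≤ FiberDict.under p P') :
    JJ (Fbar F p) ≤ Qbar p P' := by
  unfold JJ
  rw [Ideal.span_le]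
  rintro _ ⟨i, rfl⟩
  show (eT (n := n) p).symm (Fbar F p i) ∈ P'
  have h1 : (eT (n := n) p).symm (Fbar F p i) = 1 ⊗ₜ[R] F i := by
    rw [AlgEquiv.symm_apply_eq, eT_one_tmul]
    rfl
  rw [h1]
  exact hF (Ideal.subset_span ⟨i, rfl⟩)

lemma eT_symm_Fbar (i : Fin c) : (eT (n := n) p).symm (Fbar F p i) = 1 ⊗ₜ[R] F i := by
  rw [AlgEquiv.symm_apply_eq, eT_one_tmul]
  rfl

theorem isRegular_L (hcn : c ≤ n)
    (hdim : ringKrullDim (p.Fiber (MvPolynomial (Fin n) R ⧸ Ideal.span (Set.range F))) =
      ((n - c : ℕ) : WithBot ℕ∞))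
    (hF : Ideal.span (Set.range F) ≤ FiberDict.under p P') :
    RingTheory.Sequence.IsRegular (Localization.AtPrime P')
      (List.ofFn fun i => algebraMap (p.Fiber (MvPolynomial (Fin n) R)) (Localization.AtPrime P')
        (1 ⊗ₜ[R] F i)) := by
  have hdim' : ringKrullDim (MvPolynomial (Fin n) p.ResidueField ⧸ JJ (Fbar F p)) =
      ((n - c : ℕ) : WithBot ℕ∞) := by
    rw [← ringKrullDim_eq_of_ringEquiv
      (R := p.Fiber (MvPolynomial (Fin n) R ⧸ Ideal.span (Set.range F)))
      (S := MvPolynomial (Fin n) p.ResidueField ⧸ JJ (Fbar F p)) (fibQuotEquiv F p), hdim]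
  have hreg := isRegular_locList (Fbar F p) (Qbar p P') (JJ_le_Qbar F p P' hF) hcn hdim'
  have hreg' : RingTheory.Sequence.IsRegular (Localization.AtPrime (Qbar p P'))
      ((List.ofFn (Fbar F p)).map (algebraMap _ (Localization.AtPrime (Qbar p P')))) := by
    rw [List.map_ofFn]
    exact hreg
  have h2 := isRegular_localization_of_ringEquiv (eT (n := n) p).symm.toRingEquiv P' (Qbar p P') rfl
    _ hreg'
  rw [List.map_ofFn] at h2
  have h3 : (fun i => algebraMap (p.Fiber (MvPolynomial (Fin n) R)) (Localization.AtPrime P')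
        (1 ⊗ₜ[R] F i)) = ((fun a =>
          (algebraMap (p.Fiber (MvPolynomial (Fin n) R)) (Localization.AtPrime P'))
            ((eT (n := n) p).symm.toRingEquiv a)) ∘ Fbar F p) := by
    funext i
    simp only [Function.comp_apply]
    congr 1
    exact (eT_symm_Fbar F p i).symm
  rw [h3]
  exact h2

end Groth.Agent.H8.RGCI

namespace Groth.Agent.H8.RGCI
open TensorProduct Algebra MvPolynomial
open Groth.Agent.H6 Groth.Agent.H8.LCI Groth.Agent.H8.GCI Groth.Agent.H8.Synt

variable {R : Type u} [CommRing R] {n c : ℕ} (F : Fin c → MvPolynomial (Fin n) R)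

section under
variable (p : Ideal R) [p.IsPrime] (P' : Ideal (p.Fiber (MvPolynomial (Fin n) R))) [P'.IsPrime]

theorem isRegular_fibLoc_under (hcn : c ≤ n)
    (hdim : ringKrullDim (p.Fiber (MvPolynomial (Fin n) R ⧸ Ideal.span (Set.range F))) =
      ((n - c : ℕ) : WithBot ℕ∞))
    (hF : Ideal.span (Set.range F) ≤ FiberDict.under p P') :
    RingTheory.Sequence.IsRegular
      (Localization.AtPrime (FiberDict.under p P') ⧸ pL (A := R) (FiberDict.under p P'))
      ((List.ofFn F).map (algebraMap (MvPolynomial (Fin n) R)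
        (Localization.AtPrime (FiberDict.under p P') ⧸ pL (A := R) (FiberDict.under p P')))) := by
  have h1 := isRegular_L F p P' hcn hdim hF
  let e : Localization.AtPrime P' ≃+*
      (Localization.AtPrime (FiberDict.under p P') ⧸ pL (A := R) (FiberDict.under p P')) :=
    FiberDict.ringEquiv p P'
  have h2 := isRegular_map_ringEquiv e _ h1
  rw [List.map_ofFn] at h2
  rw [List.map_ofFn]
  have h3 : (⇑(algebraMap (MvPolynomial (Fin n) R)
        (Localization.AtPrime (FiberDict.under p P') ⧸ pL (A := R) (FiberDict.under p P'))) ∘ F) =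
      (⇑e ∘ fun i => algebraMap (p.Fiber (MvPolynomial (Fin n) R)) (Localization.AtPrime P')
        (1 ⊗ₜ[R] F i)) := by
    funext i
    exact (ringEquiv_algebraMap p P' (F i)).symm
  rw [h3]
  exact h2

lemma nontrivial_fiber_quot (I : Ideal (MvPolynomial (Fin n) R))
    (hI : I ≤ FiberDict.under p P') :
    Nontrivial (p.Fiber (MvPolynomial (Fin n) R ⧸ I)) := by
  refine ⟨⟨1, 0, fun h => ?_⟩⟩
  have h1 : (1 : p.Fiber (MvPolynomial (Fin n) R)) ∈ RingHom.ker (fibMap I p) := by
    rw [RingHom.mem_ker]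
    exact ((fibMap I p).toRingHom.map_one).trans h
  exact (Ideal.IsPrime.ne_top inferInstance) ((Ideal.eq_top_iff_one P').mpr
    (ker_fibMap_le I p P' hI h1))

end under

/-- **Fibrewise regularity**: for a relative global complete intersection, the equations form a
regular sequence in every fibre local ring of the polynomial ring at a prime containing them. -/
theorem isRegular_fibLoc_of_isRelGCI (h : Synt.IsRelGCI R n c F)
    (q' : Ideal (MvPolynomial (Fin n) R)) [hq : q'.IsPrime]
    (hq' : Ideal.span (Set.range F) ≤ q') :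
    RingTheory.Sequence.IsRegular (Localization.AtPrime q' ⧸ pL (A := R) q')
      ((List.ofFn F).map (algebraMap (MvPolynomial (Fin n) R)
        (Localization.AtPrime q' ⧸ pL (A := R) q'))) := by
  set p := q'.comap (algebraMap R (MvPolynomial (Fin n) R)) with hp
  obtain ⟨P', hP', hu⟩ := FiberDict.exists_under_eq p q' rfl
  have key : ∀ (r : Ideal (MvPolynomial (Fin n) R)) (hr : r.IsPrime), FiberDict.under p P' = r →
      Ideal.span (Set.range F) ≤ r →
      RingTheory.Sequence.IsRegular (Localization.AtPrime r ⧸ pL (A := R) r)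
      ((List.ofFn F).map (algebraMap (MvPolynomial (Fin n) R)
        (Localization.AtPrime r ⧸ pL (A := R) r))) := by
    rintro r hr rfl hF
    haveI := nontrivial_fiber_quot p P' _ hF
    obtain ⟨hcn, hdim⟩ := h ⟨p, inferInstance⟩ inferInstance
    exact isRegular_fibLoc_under F p P' hcn hdim hF
  exact key q' hq hu hq'

end Groth.Agent.H8.RGCI
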