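import Mathlib
import Groth.Prelude
import Groth.Agent.Lib.Helper8.RGCI.Fib
import Groth.Agent.Lib.Helper8.Synt.Core

set_option autoImplicit false
set_option linter.style.haveILetI false

universe u

open TensorProduct Algebra MvPolynomial RingTheory.Sequence

namespace Groth.Agent.H8.RGCI

open Groth.Agent.H1 Groth.Agent.H8.LCI Groth.Agent.H8.Synt

section Loc

variable {P : Type u} [CommRing P]

/-- torsion of the colon ideals with respect to a submonoid gives weak regularity in the
localization. -/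
theorem isWeaklyRegular_localization (M : Submonoid P) (S : Type*) [CommRing S] [Algebra P S]
    [IsLocalization M S] (ys : List P)
    (H : ∀ (i : ℕ) (hi : i < ys.length) (m : P),
      ys[i] * m ∈ Ideal.ofList (ys.take i) → ∃ s ∈ M, s * m ∈ Ideal.ofList (ys.take i)) :
    IsWeaklyRegular S (ys.map (algebraMap P S)) := by
  rw [Spread.isWeaklyRegular_iff_forall_mem]
  intro i hi z hz
  have hi' : i < ys.length := by rwa [List.length_map] at hi
  rw [← List.map_take, ← Ideal.map_ofList, List.getElem_map] at *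
  obtain ⟨m, s, rfl⟩ := IsLocalization.exists_mk'_eq M z
  rw [IsLocalization.mul_mk'_eq_mk'_of_mul,
    IsLocalization.mk'_mem_map_algebraMap_iff] at hz
  rw [IsLocalization.mk'_mem_map_algebraMap_iff]
  obtain ⟨s', hs'M, hs'⟩ := hz
  have h1 : ys[i] * (s' * m) ∈ Ideal.ofList (ys.take i) := by
    have : ys[i] * (s' * m) = s' * (ys[i] * m) := by ring
    rw [this]
    exact hs'
  obtain ⟨k, hkM, hk⟩ := H i hi' _ h1
  refine ⟨k * s', M.mul_mem hkM hs'M, ?_⟩
  rw [mul_assoc]
  exact hk

end Loc

variable {A P : Type u} [CommRing A] [CommRing P] [Algebra A P] [Algebra.FinitePresentation A P]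
  [Module.Flat A P] (𝔮 : Ideal P) [𝔮.IsPrime] (ys : List P)

/-- From regularity in the fibre local ring: a basic open neighbourhood on which the sequence is
weakly regular, and weak regularity in the local ring. -/
theorem exists_away_and_local_of_fibre
    (hreg : IsWeaklyRegular (Localization.AtPrime 𝔮 ⧸ pL (A := A) 𝔮)
      (ys.map (algebraMap P (Localization.AtPrime 𝔮 ⧸ pL (A := A) 𝔮)))) :
    (∃ t : P, t ∉ 𝔮 ∧
      IsWeaklyRegular (Localization.Away t) (ys.map (algebraMap P (Localization.Away t)))) ∧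
    IsWeaklyRegular (Localization.AtPrime 𝔮) (ys.map (algebraMap P (Localization.AtPrime 𝔮))) := by
  have hwr := wrcond_of_isWeaklyRegular (A := A) 𝔮 ys hreg
  obtain ⟨t, ht, Ht⟩ := exists_pow_mul_mem (A := A) 𝔮 ys hwr
  refine ⟨⟨t, ht, isWeaklyRegular_away t ys fun i hi m hm => ?_⟩,
    isWeaklyRegular_localization 𝔮.primeCompl _ ys fun i hi m hm => ?_⟩
  · obtain ⟨k, hk⟩ := Ht i hi m hm 1
    exact ⟨k, by simpa using hk⟩
  · obtain ⟨k, hk⟩ := Ht i hi m hm 1
    refine ⟨t ^ k, ?_, by simpa using hk⟩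
    exact fun h => ht (Ideal.IsPrime.mem_of_pow_mem inferInstance k h)

end Groth.Agent.H8.RGCI

namespace Groth.Agent.H8.RGCI
open TensorProduct Algebra MvPolynomial RingTheory.Sequence
open Groth.Agent.H1 Groth.Agent.H8.LCI Groth.Agent.H8.Synt

section flat
variable {A P : Type u} [CommRing A] [CommRing P] [Algebra A P] (𝔮 : Ideal P) [𝔮.IsPrime]

/-- flatness of the localized module `(P/J)_𝔮` gives flatness of the ring `P_𝔮 / J P_𝔮`. -/
theorem flat_quot_map_of_flat_localizedModule (J : Ideal P)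
    [Module.Flat A (LocalizedModule 𝔮.primeCompl (P ⧸ (J • ⊤ : Submodule P P)))] :
    Module.Flat A (Localization.AtPrime 𝔮 ⧸ J.map (algebraMap P (Localization.AtPrime 𝔮))) := by
  haveI h1 : IsLocalizedModule 𝔮.primeCompl (IsScalarTower.toAlgHom P (P ⧸ J)
      (Localization.AtPrime 𝔮 ⧸ J.map (algebraMap P (Localization.AtPrime 𝔮)))).toLinearMap :=
    isLocalizedModule_iff_isLocalization.mpr inferInstance
  let e : (P ⧸ (J • ⊤ : Submodule P P)) ≃ₗ[P] (P ⧸ J) :=
    Submodule.quotEquivOfEq _ _ (smul_top_self J)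
  haveI h2 : IsLocalizedModule 𝔮.primeCompl ((IsScalarTower.toAlgHom P (P ⧸ J)
      (Localization.AtPrime 𝔮 ⧸ J.map (algebraMap P (Localization.AtPrime 𝔮)))).toLinearMap ∘ₗ
      e.toLinearMap) := IsLocalizedModule.of_linearEquiv_right _ _ e
  exact Groth.Agent.H1.FlatLocus.flat_of_isLocalizedModule_of_le (R := A) (B := P)
    (X := P ⧸ (J • ⊤ : Submodule P P))
    (X' := LocalizedModule 𝔮.primeCompl (P ⧸ (J • ⊤ : Submodule P P)))
    𝔮.primeCompl (LocalizedModule.mkLinearMap 𝔮.primeCompl _) 𝔮.primeCompl le_rfl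
    ((IsScalarTower.toAlgHom P (P ⧸ J)
      (Localization.AtPrime 𝔮 ⧸ J.map (algebraMap P (Localization.AtPrime 𝔮)))).toLinearMap ∘ₗ
      e.toLinearMap)

end flat

variable {A P : Type u} [CommRing A] [CommRing P] [Algebra A P] [Algebra.FinitePresentation A P]
  [Module.Flat A P] (𝔮 : Ideal P) [𝔮.IsPrime] (ys : List P)

/-- From regularity in the fibre local ring: the localized successive quotients are flat over
`A` (module form). -/
theorem flat_localizedModule_quot_of_fibre
    (hreg : IsWeaklyRegular (Localization.AtPrime 𝔮 ⧸ pL (A := A) 𝔮)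
      (ys.map (algebraMap P (Localization.AtPrime 𝔮 ⧸ pL (A := A) 𝔮)))) :
    ∀ i ≤ ys.length, Module.Flat A (LocalizedModule 𝔮.primeCompl
      (P ⧸ (Ideal.ofList (ys.take i) • ⊤ : Submodule P P))) := by
  have hwr := wrcond_of_isWeaklyRegular (A := A) 𝔮 ys hreg
  have hflat : Module.Flat A (LocalizedModule 𝔮.primeCompl P) :=
    LimFlat.flat_localizedModule_of_flat (R := A) (B := P) (M := P) 𝔮.primeCompl
  have hE := (RegFib.wrcond_iff 𝔮 ys hflat).mp hwr
  intro i
  induction i with
  | zero => exact fun _ => RegFib.flat_zero 𝔮 ys hflat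
  | succ i ih =>
    intro hi
    exact RegFib.flat_succ_of_econd 𝔮 ys i hi (hE i hi)

/-- From regularity in the fibre local ring: the successive quotients of `P_𝔮` are flat over `A`. -/
theorem flat_quot_of_fibre
    (hreg : IsWeaklyRegular (Localization.AtPrime 𝔮 ⧸ pL (A := A) 𝔮)
      (ys.map (algebraMap P (Localization.AtPrime 𝔮 ⧸ pL (A := A) 𝔮)))) :
    ∀ i ≤ ys.length, Module.Flat A (Localization.AtPrime 𝔮 ⧸
      (Ideal.ofList (ys.take i)).map (algebraMap P (Localization.AtPrime 𝔮))) := by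
  intro i hi
  haveI := flat_localizedModule_quot_of_fibre (A := A) 𝔮 ys hreg i hi
  exact flat_quot_map_of_flat_localizedModule 𝔮 _

end Groth.Agent.H8.RGCI
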