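import Mathlib
import Groth.Prelude
import Groth.Agent.Lib.Helper8.RGCI.Reg
import Groth.Agent.Lib.Helper8.RGCI.KosLoc
import Groth.Agent.S15821

set_option autoImplicit false
set_option linter.style.haveILetI false

universe u

open TensorProduct Algebra MvPolynomial RingTheory.Sequence

namespace Groth.Agent.H8.RGCI

variable {R : Type u} [CommRing R] {n c : ℕ} (F : Fin c → MvPolynomial (Fin n) R)

lemma mem_ofFn_iff (x : MvPolynomial (Fin n) R) : x ∈ List.ofFn F ↔ x ∈ Set.range F := by
  simp [List.mem_ofFn]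

/-- at every prime containing the equations, some basic open neighbourhood on which the
equations are weakly regular. -/
theorem exists_away_weaklyRegular_of_isRelGCI (h : Synt.IsRelGCI R n c F)
    (q' : Ideal (MvPolynomial (Fin n) R)) [q'.IsPrime] (hq' : Ideal.span (Set.range F) ≤ q') :
    ∃ t : MvPolynomial (Fin n) R, t ∉ q' ∧ IsWeaklyRegular (Localization.Away t)
      ((List.ofFn F).map (algebraMap (MvPolynomial (Fin n) R) (Localization.Away t))) :=
  (exists_away_and_local_of_fibre (A := R) q' (List.ofFn F)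
    (isRegular_fibLoc_of_isRelGCI F h q' hq').toIsWeaklyRegular).1

theorem isKoszulRegularSeq_of_isRelGCI (h : Synt.IsRelGCI R n c F) :
    LCI.IsKoszulRegularSeq (MvPolynomial (Fin n) R) (List.ofFn F) := by
  let s : Set (MvPolynomial (Fin n) R) := {t | LCI.IsKoszulRegularSeq (Localization.Away t)
    ((List.ofFn F).map (algebraMap (MvPolynomial (Fin n) R) (Localization.Away t)))}
  apply isKoszulRegularSeq_of_span (List.ofFn F) s ?_ (fun t ht => ht)
  by_contra hne
  obtain ⟨𝔪, h𝔪, hle⟩ := Ideal.exists_le_maximal _ hne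
  haveI := h𝔪.isPrime
  have hsub : ∀ t ∈ s, t ∈ 𝔪 := fun t ht => hle (Ideal.subset_span ht)
  by_cases hF : Ideal.span (Set.range F) ≤ 𝔪
  · obtain ⟨t, ht, hwr⟩ := exists_away_weaklyRegular_of_isRelGCI F h 𝔪 hF
    exact ht (hsub t (Groth.Agent.S15821.result _ _ hwr).1)
  · have : ∃ i, F i ∉ 𝔪 := by
      by_contra hcon
      push Not at hcon
      apply hF
      rw [Ideal.span_le]
      rintro _ ⟨i, rfl⟩
      exact hcon i
    obtain ⟨i, hi⟩ := this
    apply hi
    apply hsub
    show LCI.IsKoszulRegularSeq _ _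
    apply isKoszulRegularSeq_of_span_eq_top
    apply Ideal.eq_top_of_isUnit_mem _ (Ideal.subset_span _)
      (IsLocalization.Away.algebraMap_isUnit (F i))
    show _ ∈ List.map _ _
    rw [List.mem_map]
    exact ⟨F i, (mem_ofFn_iff F _).mpr ⟨i, rfl⟩, rfl⟩

end Groth.Agent.H8.RGCI
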