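import Mathlib
import Groth.Agent.Lib.Helper8.Synt.Core

set_option autoImplicit false
set_option linter.style.haveILetI false

universe u

open Function RingTheory.Sequence

namespace Groth.Agent.H8.RGCI

open Groth.Agent.H1 Groth.Agent.H8.LCI Groth.Agent.H8.Synt

variable {A P : Type u} [CommRing A] [CommRing P] [Algebra A P] (I : Ideal P)
  (𝔮 : Ideal P) [𝔮.IsPrime]

/-- local flatness version of `LCI.KL_inf_pL_le`. -/
theorem KL_inf_pL_le' [Module.Flat A (Localization.AtPrime 𝔮 ⧸ KL I 𝔮)] :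
    KL I 𝔮 ⊓ pL (A := A) 𝔮 ≤ pL (A := A) 𝔮 * KL I 𝔮 := by
  intro x hx
  let f : Localization.AtPrime 𝔮 →ₗ[A] (Localization.AtPrime 𝔮 ⧸ KL I 𝔮) :=
    (Ideal.Quotient.mkₐ A (KL I 𝔮)).toLinearMap
  have hf : Surjective f := Ideal.Quotient.mk_surjective
  have key := LinearMap.ker_inf_smul_top_eq_smul_of_flat (𝔮.comap (algebraMap A P)) f hf
  have hx1 : x ∈ LinearMap.ker f ⊓ (𝔮.comap (algebraMap A P)) •
      (⊤ : Submodule A (Localization.AtPrime 𝔮)) := by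
    refine Submodule.mem_inf.mpr ⟨?_, ?_⟩
    · rw [LinearMap.mem_ker]
      exact Ideal.Quotient.eq_zero_iff_mem.mpr hx.1
    · rw [Ideal.smul_top_eq_map]
      exact hx.2
  rw [key] at hx1
  refine Submodule.smul_induction_on hx1 ?_ ?_
  · intro r hr n hn
    rw [Algebra.smul_def]
    apply Ideal.mul_mem_mul (Ideal.mem_map_of_mem _ hr)
    rw [LinearMap.mem_ker] at hn
    exact Ideal.Quotient.eq_zero_iff_mem.mp hn
  · intro a b ha hb
    exact Ideal.add_mem _ ha hb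

/-- Nakayama with local flatness. -/
theorem KL_eq_ofList' [Module.Flat A (Localization.AtPrime 𝔮 ⧸ KL I 𝔮)] (hfg : I.FG)
    (ys : List P) (hys : ∀ y ∈ ys, y ∈ I)
    (hgen : Ideal.ofList (ys.map (algebraMap P (Localization.AtPrime 𝔮 ⧸ pL (A := A) 𝔮))) =
      JR (A := A) I 𝔮) :
    KL I 𝔮 = Ideal.ofList (ys.map (algebraMap P (Localization.AtPrime 𝔮))) := by
  set Y := Ideal.ofList (ys.map (algebraMap P (Localization.AtPrime 𝔮))) with hY
  have hYK : Y ≤ KL I 𝔮 := by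
    rw [hY, ← Ideal.map_ofList]
    exact Ideal.map_mono (Ideal.span_le.mpr hys)
  apply le_antisymm _ hYK
  have hfgK : (KL I 𝔮).FG := hfg.map _
  apply Submodule.le_of_le_smul_of_le_jacobson_bot
    (I := IsLocalRing.maximalIdeal (Localization.AtPrime 𝔮)) hfgK
  · rw [IsLocalRing.jacobson_eq_maximalIdeal ⊥ bot_ne_top]
  · intro z hz
    have h1 : Ideal.Quotient.mk (pL (A := A) 𝔮) z ∈ JR (A := A) I 𝔮 := Ideal.mem_map_of_mem _ hz
    rw [← hgen] at h1
    have h2 : Ideal.ofList (ys.map (algebraMap P (Localization.AtPrime 𝔮 ⧸ pL (A := A) 𝔮))) =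
        Y.map (Ideal.Quotient.mk (pL (A := A) 𝔮)) := by
      rw [hY, Ideal.map_ofList, List.map_map]
      rfl
    rw [h2] at h1
    obtain ⟨y', hy', hy'z⟩ :=
      (Ideal.mem_map_iff_of_surjective _ Ideal.Quotient.mk_surjective).mp h1
    have h3 : z - y' ∈ pL (A := A) 𝔮 * KL I 𝔮 := by
      apply KL_inf_pL_le' (A := A) I 𝔮
      refine ⟨(KL I 𝔮).sub_mem hz (hYK hy'), ?_⟩
      show z - y' ∈ pL (A := A) 𝔮
      rw [← Ideal.Quotient.eq_zero_iff_mem, map_sub, hy'z, sub_self]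
    have h4 : z = y' + (z - y') := by ring
    rw [h4]
    refine Submodule.add_mem_sup hy' ?_
    rw [smul_eq_mul]
    exact Ideal.mul_mono_left (pL_le_maximalIdeal 𝔮) h3

theorem exists_mul_mem_ofList' [Module.Flat A (Localization.AtPrime 𝔮 ⧸ KL I 𝔮)] (hfg : I.FG)
    (ys : List P) (hys : ∀ y ∈ ys, y ∈ I)
    (hgen : Ideal.ofList (ys.map (algebraMap P (Localization.AtPrime 𝔮 ⧸ pL (A := A) 𝔮))) =
      JR (A := A) I 𝔮) :
    ∃ g ∈ 𝔮.primeCompl, ∀ c ∈ I, g * c ∈ Ideal.ofList ys := by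
  apply Groth.Agent.H1.Spread.exists_mul_mem_of_map_le 𝔮.primeCompl (Localization.AtPrime 𝔮) I _ hfg
  rw [Ideal.map_ofList]
  exact (KL_eq_ofList' (A := A) I 𝔮 hfg ys hys hgen).le

/-- **Core, local flatness form**: if `(P/I)_𝔮` is flat over `A` and the image of `I` in the fibre
local ring is generated by a regular sequence, then `I` is generated near `𝔮` by lifts of it. -/
theorem exists_lifts_of_gens [Module.Flat A (Localization.AtPrime 𝔮 ⧸ KL I 𝔮)] (hfg : I.FG)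
    (hgens : ∃ rs : List (Localization.AtPrime 𝔮 ⧸ pL (A := A) 𝔮),
      RingTheory.Sequence.IsRegular (Localization.AtPrime 𝔮 ⧸ pL (A := A) 𝔮) rs ∧
      Ideal.ofList rs = JR (A := A) I 𝔮) :
    ∃ ys : List P, (∀ y ∈ ys, y ∈ I) ∧
      RingTheory.Sequence.IsRegular (Localization.AtPrime 𝔮 ⧸ pL (A := A) 𝔮)
        (ys.map (algebraMap P (Localization.AtPrime 𝔮 ⧸ pL (A := A) 𝔮))) ∧
      Ideal.ofList (ys.map (algebraMap P (Localization.AtPrime 𝔮 ⧸ pL (A := A) 𝔮))) =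
        JR (A := A) I 𝔮 ∧
      ∃ g : P, g ∉ 𝔮 ∧ ∀ c ∈ I, g * c ∈ Ideal.ofList ys := by
  obtain ⟨ys, hys, hreg, hgen⟩ := exists_lift_regular_of_gens (A := A) I 𝔮 hgens
  obtain ⟨g₁, hg₁, Hg₁⟩ := exists_mul_mem_ofList' (A := A) I 𝔮 hfg ys hys hgen
  exact ⟨ys, hys, hreg, hgen, g₁, hg₁, Hg₁⟩

end Groth.Agent.H8.RGCI
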