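import Mathlib
import Groth.Prelude
import Groth.Agent.Lib.Helper8.Synt.FibGens

set_option autoImplicit false
set_option linter.style.haveILetI false

universe u

open TensorProduct Algebra

namespace Groth.Agent.H8.RGCI

open Groth.Agent.H6 Groth.Agent.H8.LCI Groth.Agent.H8.CILocal Groth.Agent.H8.Synt

variable {A P : Type u} [CommRing A] [CommRing P] [Algebra A P] (I : Ideal P)
  (p : Ideal A) [p.IsPrime] (Q' : Ideal (p.Fiber (P ⧸ I))) [Q'.IsPrime]

/-- the prime of the fibre of `P` below `Q'`. -/
noncomputable abbrev Pfib : Ideal (p.Fiber P) := Q'.comap (fibMap I p)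

instance : (Pfib I p Q').IsPrime := Ideal.comap_isPrime _ _

omit [Q'.IsPrime] in
lemma under_Pfib :
    FiberDict.under p (Pfib I p Q') =
      (Q'.comap (Algebra.TensorProduct.includeRight : P ⧸ I →ₐ[A] p.Fiber (P ⧸ I))).comap
        (Ideal.Quotient.mk I) := by
  ext x
  simp only [FiberDict.under, Pfib, Ideal.mem_comap]
  have : fibMap I p ((Algebra.TensorProduct.includeRight : P →ₐ[A] p.Fiber P) x) =
      (Algebra.TensorProduct.includeRight : P ⧸ I →ₐ[A] p.Fiber (P ⧸ I))
        (Ideal.Quotient.mk I x) := by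
    simp [fibMap]
  rw [this]

theorem exists_regular_gens_L_of_isCIOver [Algebra.FiniteType A P] [IsRegularRing (p.Fiber P)]
    (hci : Synt.IsCIOver p.ResidueField (Localization.AtPrime Q')) :
    ∃ rs : List (Localization.AtPrime (Pfib I p Q')),
      RingTheory.Sequence.IsRegular (Localization.AtPrime (Pfib I p Q')) rs ∧
      Ideal.ofList rs = (I.map (Algebra.TensorProduct.includeRight : P →ₐ[A] p.Fiber P)).map
        (algebraMap (p.Fiber P) (Localization.AtPrime (Pfib I p Q'))) := by
  haveI : Algebra.FiniteType A (P ⧸ I) :=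
    Algebra.FiniteType.of_surjective (Ideal.Quotient.mkₐ A I) (Ideal.Quotient.mkₐ_surjective A I)
  haveI : Algebra.EssFiniteType p.ResidueField (Localization.AtPrime Q') := by
    haveI : Algebra.EssFiniteType (p.Fiber (P ⧸ I)) (Localization.AtPrime Q') :=
      Algebra.EssFiniteType.of_isLocalization _ Q'.primeCompl
    exact Algebra.EssFiniteType.comp p.ResidueField (p.Fiber (P ⧸ I)) _
  have hess : Algebra.EssFiniteType p.ResidueField (Localization.AtPrime (Pfib I p Q')) := by
    haveI : Algebra.EssFiniteType (p.Fiber P) (Localization.AtPrime (Pfib I p Q')) :=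
      Algebra.EssFiniteType.of_isLocalization _ (Pfib I p Q').primeCompl
    exact Algebra.EssFiniteType.comp p.ResidueField (p.Fiber P) _
  let π : Localization.AtPrime (Pfib I p Q') →ₐ[p.ResidueField] Localization.AtPrime Q' :=
    Localization.localAlgHom (Pfib I p Q') Q' (fibMap I p) rfl
  have hπ : Function.Surjective π :=
    localRingHom_surjective (fibMap I p).toRingHom (fibMap_surjective I p) (Pfib I p Q') Q' rfl
  obtain ⟨rs, hreg, hrs⟩ := (isCIOver_iff_forall_regular.mp hci)
    (Localization.AtPrime (Pfib I p Q')) hess π hπ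
  refine ⟨rs, hreg, ?_⟩
  rw [← hrs, ← ker_fibMap]
  exact ker_localRingHom (fibMap I p).toRingHom (fibMap_surjective I p) (Pfib I p Q') Q' rfl

end Groth.Agent.H8.RGCI

namespace Groth.Agent.H8.RGCI

open Groth.Agent.H6 Groth.Agent.H8.LCI Groth.Agent.H8.CILocal Groth.Agent.H8.Synt

variable {A P : Type u} [CommRing A] [CommRing P] [Algebra A P] (I : Ideal P)
  (p : Ideal A) [p.IsPrime]

/-- the dictionary isomorphism carries the image of `I` to `JR`. -/
theorem map_ringEquiv_KL (P' : Ideal (p.Fiber P)) [P'.IsPrime] :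
    Ideal.map (FiberDict.ringEquiv p P' : Localization.AtPrime P' →+*
        (Localization.AtPrime (FiberDict.under p P') ⧸ pL (A := A) (FiberDict.under p P')))
      ((I.map (Algebra.TensorProduct.includeRight : P →ₐ[A] p.Fiber P)).map
        (algebraMap (p.Fiber P) (Localization.AtPrime P'))) =
      JR (A := A) I (FiberDict.under p P') := by
  have h2 : I.map (Algebra.TensorProduct.includeRight : P →ₐ[A] p.Fiber P) =
      I.map (Algebra.TensorProduct.includeRight : P →ₐ[A] p.Fiber P).toRingHom := rfl
  rw [h2, Ideal.map_map, Ideal.map_map]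
  unfold JR KL
  rw [Ideal.map_map]
  congr 1
  ext b
  exact ringEquiv_algebraMap p P' b

variable (Q' : Ideal (p.Fiber (P ⧸ I))) [Q'.IsPrime]

theorem exists_regular_gens_under_of_isCIOver [Algebra.FiniteType A P] [IsRegularRing (p.Fiber P)]
    (hci : Synt.IsCIOver p.ResidueField (Localization.AtPrime Q')) :
    ∃ rs : List (Localization.AtPrime (FiberDict.under p (Pfib I p Q')) ⧸
        pL (A := A) (FiberDict.under p (Pfib I p Q'))),
      RingTheory.Sequence.IsRegular
        (Localization.AtPrime (FiberDict.under p (Pfib I p Q')) ⧸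
          pL (A := A) (FiberDict.under p (Pfib I p Q'))) rs ∧
      Ideal.ofList rs = JR (A := A) I (FiberDict.under p (Pfib I p Q')) := by
  obtain ⟨rs, hreg, hrs⟩ := exists_regular_gens_L_of_isCIOver I p Q' hci
  let e : Localization.AtPrime (Pfib I p Q') ≃+*
      (Localization.AtPrime (FiberDict.under p (Pfib I p Q')) ⧸
        pL (A := A) (FiberDict.under p (Pfib I p Q'))) :=
    FiberDict.ringEquiv p (Pfib I p Q')
  refine ⟨rs.map e, isRegular_map_ringEquiv e rs hreg, ?_⟩
  have h1 : Ideal.ofList (rs.map e) = (Ideal.ofList rs).map (e : _ →+* _) := by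
    rw [Ideal.map_ofList]
    rfl
  rw [h1, hrs]
  exact map_ringEquiv_KL I p (Pfib I p Q')

omit [p.IsPrime] in
lemma ker_comp_symm {X Y Z : Type*} [CommRing X] [CommRing Y] [CommRing Z] (e : X ≃+* Y)
    (π : X →+* Z) : RingHom.ker (π.comp e.symm.toRingHom) = (RingHom.ker π).map (e : X →+* Y) := by
  ext x
  rw [RingHom.mem_ker]
  constructor
  · intro hx
    have : x = e (e.symm x) := (e.apply_symm_apply x).symm
    rw [this]
    exact Ideal.mem_map_of_mem _ (RingHom.mem_ker.mpr hx)
  · intro hx
    obtain ⟨y, hy, rfl⟩ := (Ideal.mem_map_iff_of_surjective (e : X →+* Y) e.surjective).mp hx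
    show π (e.symm (e y)) = 0
    rw [e.symm_apply_apply]
    exact RingHom.mem_ker.mp hy

omit [p.IsPrime] in
lemma ringKrullDim_quot_eq_of_ker {Y Z : Type*} [CommRing Y] [CommRing Z] (π' : Y →+* Z)
    (hπ' : Function.Surjective π') (J : Ideal Y) (h : RingHom.ker π' = J) :
    ringKrullDim (Y ⧸ J) = ringKrullDim Z :=
  ringKrullDim_eq_of_ringEquiv
    ((Ideal.quotEquivOfEq h.symm).trans (RingHom.quotientKerEquivOfSurjective hπ'))

/-- dimensions of the fibre local rings. -/
theorem ringKrullDim_fibLoc :
    ringKrullDim (Localization.AtPrime (FiberDict.under p (Pfib I p Q')) ⧸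
        pL (A := A) (FiberDict.under p (Pfib I p Q'))) = (Pfib I p Q').height := by
  rw [← ringKrullDim_eq_of_ringEquiv
    (R := Localization.AtPrime (Pfib I p Q'))
    (S := Localization.AtPrime (FiberDict.under p (Pfib I p Q')) ⧸
        pL (A := A) (FiberDict.under p (Pfib I p Q')))
    (FiberDict.ringEquiv p (Pfib I p Q'))]
  exact IsLocalization.AtPrime.ringKrullDim_eq_height (Pfib I p Q')
    (Localization.AtPrime (Pfib I p Q'))

theorem ringKrullDim_fibLoc_quot :
    ringKrullDim ((Localization.AtPrime (FiberDict.under p (Pfib I p Q')) ⧸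
        pL (A := A) (FiberDict.under p (Pfib I p Q'))) ⧸
          JR (A := A) I (FiberDict.under p (Pfib I p Q'))) = Q'.height := by
  let π : Localization.AtPrime (Pfib I p Q') →+* Localization.AtPrime Q' :=
    Localization.localRingHom (Pfib I p Q') Q' (fibMap I p).toRingHom rfl
  have hπ : Function.Surjective π :=
    localRingHom_surjective (fibMap I p).toRingHom (fibMap_surjective I p) (Pfib I p Q') Q' rfl
  have hker : RingHom.ker π = (I.map (Algebra.TensorProduct.includeRight :
      P →ₐ[A] p.Fiber P)).map (algebraMap (p.Fiber P) (Localization.AtPrime (Pfib I p Q'))) := by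
    rw [← ker_fibMap]
    exact ker_localRingHom (fibMap I p).toRingHom (fibMap_surjective I p) (Pfib I p Q') Q' rfl
  let e : Localization.AtPrime (Pfib I p Q') ≃+*
      (Localization.AtPrime (FiberDict.under p (Pfib I p Q')) ⧸
        pL (A := A) (FiberDict.under p (Pfib I p Q'))) :=
    FiberDict.ringEquiv p (Pfib I p Q')
  let π' : (Localization.AtPrime (FiberDict.under p (Pfib I p Q')) ⧸
        pL (A := A) (FiberDict.under p (Pfib I p Q'))) →+* Localization.AtPrime Q' :=
    π.comp e.symm.toRingHom
  have hπ' : Function.Surjective π' := hπ.comp e.symm.surjective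
  have hker' : RingHom.ker π' = JR (A := A) I (FiberDict.under p (Pfib I p Q')) := by
    rw [← map_ringEquiv_KL I p (Pfib I p Q'), ← hker]
    exact ker_comp_symm (X := Localization.AtPrime (Pfib I p Q'))
      (Y := Localization.AtPrime (FiberDict.under p (Pfib I p Q')) ⧸
        pL (A := A) (FiberDict.under p (Pfib I p Q')))
      (Z := Localization.AtPrime Q') e π
  rw [ringKrullDim_quot_eq_of_ker
      (Y := Localization.AtPrime (FiberDict.under p (Pfib I p Q')) ⧸
        pL (A := A) (FiberDict.under p (Pfib I p Q')))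
      (Z := Localization.AtPrime Q') π' hπ' _ hker']
  exact IsLocalization.AtPrime.ringKrullDim_eq_height Q' (Localization.AtPrime Q')

end Groth.Agent.H8.RGCI
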