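import Mathlib
import Groth.Agent.Lib.Helper8.LCI.Fibre

set_option autoImplicit false
set_option linter.style.haveILetI false

universe u

namespace Groth.Agent.H8.RGCI

open Groth.Agent.H8.LCI

section

variable {A P : Type u} [CommRing A] [CommRing P] [Algebra A P] (I : Ideal P)
  (q' : Ideal (P ⧸ I)) [q'.IsPrime]

/-- the local ring of `P/I` at `q'` is the quotient of the local ring of `P`. -/
lemma isLocalization_quot_KL :
    IsLocalization.AtPrime
      (Localization.AtPrime (q'.comap (Ideal.Quotient.mk I)) ⧸ KL I (q'.comap (Ideal.Quotient.mk I)))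
      q' := by
  set 𝔮 := q'.comap (Ideal.Quotient.mk I) with h𝔮
  have h : Algebra.algebraMapSubmonoid (P ⧸ I) 𝔮.primeCompl = q'.primeCompl := by
    ext x
    obtain ⟨y, rfl⟩ := Ideal.Quotient.mk_surjective x
    simp only [Algebra.algebraMapSubmonoid, Submonoid.mem_map, Ideal.mem_primeCompl_iff]
    constructor
    · rintro ⟨z, hz, hzy⟩ hy
      apply hz
      rw [h𝔮, Ideal.mem_comap]
      have : Ideal.Quotient.mk I z = Ideal.Quotient.mk I y := hzy
      rw [this]
      exact hy
    · intro hy
      exact ⟨y, fun hyQ => hy hyQ, rfl⟩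
  unfold IsLocalization.AtPrime
  rw [← h]
  infer_instance

/-- local flatness transfers to the quotient of the local ring of `P`. -/
theorem flat_quot_KL_of_flat_atPrime [Module.Flat A (Localization.AtPrime q')] :
    Module.Flat A (Localization.AtPrime (q'.comap (Ideal.Quotient.mk I)) ⧸
      KL I (q'.comap (Ideal.Quotient.mk I))) := by
  haveI := isLocalization_quot_KL I q'
  let e : Localization.AtPrime q' ≃ₐ[P ⧸ I]
      (Localization.AtPrime (q'.comap (Ideal.Quotient.mk I)) ⧸
        KL I (q'.comap (Ideal.Quotient.mk I))) :=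
    IsLocalization.algEquiv q'.primeCompl _ _
  haveI : IsScalarTower A (P ⧸ I) (Localization.AtPrime (q'.comap (Ideal.Quotient.mk I)) ⧸
      KL I (q'.comap (Ideal.Quotient.mk I))) :=
    IsScalarTower.of_algebraMap_eq fun a => by
      show Ideal.Quotient.mk _ (algebraMap A (Localization.AtPrime _) a) =
        Ideal.Quotient.mk _ (algebraMap P (Localization.AtPrime _) (algebraMap A P a))
      rw [← IsScalarTower.algebraMap_apply]
  exact Module.Flat.of_linearEquiv (e.restrictScalars A).toLinearEquiv.symm

end

end Groth.Agent.H8.RGCI
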