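import Mathlib
import Groth.Prelude
import Groth.Agent.Lib.Helper8.RGCI.GensCI
import Groth.Agent.Lib.Helper8.RGCI.CoreLoc
import Groth.Agent.Lib.Helper8.RGCI.QuotLoc

set_option autoImplicit false
set_option linter.style.haveILetI false

universe u

open TensorProduct Algebra

namespace Groth.Agent.H8.RGCI

open Groth.Agent.H6 Groth.Agent.H8.LCI Groth.Agent.H8.CILocal Groth.Agent.H8.Synt

variable {A P : Type u} [CommRing A] [CommRing P] [Algebra A P] (I : Ideal P)
  (p : Ideal A) [p.IsPrime] (Q' : Ideal (p.Fiber (P ⧸ I))) [Q'.IsPrime]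

/-- generation near the prime, with the count of generators. -/
theorem exists_gens_and_height [Algebra.FiniteType A P] [IsRegularRing (p.Fiber P)] (hfg : I.FG)
    [IsNoetherianRing (Localization.AtPrime (FiberDict.under p (Pfib I p Q')) ⧸
        pL (A := A) (FiberDict.under p (Pfib I p Q')))]
    [Module.Flat A (Localization.AtPrime (FiberDict.under p (Pfib I p Q')) ⧸
      KL I (FiberDict.under p (Pfib I p Q')))]
    (hci : Synt.IsCIOver p.ResidueField (Localization.AtPrime Q')) :
    ∃ ys : List P, (∀ y ∈ ys, y ∈ I) ∧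
      (∃ g : P, g ∉ FiberDict.under p (Pfib I p Q') ∧ ∀ c ∈ I, g * c ∈ Ideal.ofList ys) ∧
      (Q'.height : WithBot ℕ∞) + (ys.length : WithBot ℕ∞) = ((Pfib I p Q').height : WithBot ℕ∞) := by
  have hgens := exists_regular_gens_under_of_isCIOver I p Q' hci
  obtain ⟨ys, hys, hreg, hgen, g, hg, Hg⟩ :=
    exists_lifts_of_gens (A := A) I (FiberDict.under p (Pfib I p Q')) hfg hgens
  refine ⟨ys, hys, ⟨g, hg, Hg⟩, ?_⟩
  have h1 := ringKrullDim_add_length_eq_ringKrullDim_of_isRegular _ hreg
  rw [hgen, ringKrullDim_fibLoc_quot, ringKrullDim_fibLoc, List.length_map] at h1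
  exact h1

end Groth.Agent.H8.RGCI
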