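import Mathlib
import Groth.Agent.Lib.Helper8.CI.CIDim

set_option autoImplicit false
set_option linter.style.haveILetI false

universe u

namespace Groth.Agent.H8.RGCI

open Groth.Agent.H8.CIDim

/-- around a prime `Q` of a finite type algebra over a field, the dimension is at most
`ht Q + dim T/Q` on a basic open neighbourhood (and all smaller basic opens). -/
theorem exists_notMem_forall_dim_away_le (k : Type u) [Field k] (T : Type u) [CommRing T]
    [Algebra k T] [Algebra.FiniteType k T] (Q : Ideal T) [Q.IsPrime] :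
    ∃ t : T, t ∉ Q ∧ ∀ t' : T, ringKrullDim (Localization.Away (t * t')) ≤
      (Q.height : WithBot ℕ∞) + ringKrullDim (T ⧸ Q) := by
  classical
  haveI : IsNoetherianRing T := Algebra.FiniteType.isNoetherianRing k T
  have hfin : (minimalPrimes T).Finite := minimalPrimes.finite_of_isNoetherianRing T
  set T₀ : Finset (Ideal T) := hfin.toFinset.filter (fun p => ¬ p ≤ Q) with hT₀
  have hex : ∀ p ∈ T₀, ∃ a ∈ p, a ∉ Q := by
    intro p hp
    exact SetLike.not_le_iff_exists.mp (Finset.mem_filter.mp hp).2
  choose! a ha1 ha2 using hex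
  refine ⟨∏ p ∈ T₀, a p, ?_, ?_⟩
  · intro hmem
    obtain ⟨p, hp, hmem'⟩ := Ideal.IsPrime.prod_mem_iff.mp hmem
    exact ha2 p hp hmem'
  · intro t'
    apply ringKrullDim_away_le
    intro p hp hgp
    haveI : p.IsPrime := hp.1.1
    have hpQ : p ≤ Q := by
      by_contra hpq
      apply hgp
      have hpT : p ∈ T₀ := Finset.mem_filter.mpr ⟨hfin.mem_toFinset.mpr hp, hpq⟩
      exact Ideal.mul_mem_right _ _
        (Ideal.mem_of_dvd _ (Finset.dvd_prod_of_mem a hpT) (ha1 p hpT))
    exact ringKrullDim_quotient_le_height_add k T p Q hpQ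

end Groth.Agent.H8.RGCI
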