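import Mathlib
import Groth.Prelude
import Groth.Agent.Lib.Helper8.RGCI.GensCI
import Groth.Agent.Lib.Helper8.RGCI.LemM
import Groth.Agent.Lib.Helper2.DimFG

set_option autoImplicit false
set_option linter.style.haveILetI false

universe u

open TensorProduct Algebra

namespace Groth.Agent.H8.RGCI

open Groth.Agent.H6 Groth.Agent.H8.LCI Groth.Agent.H8.CILocal Groth.Agent.H8.Synt

/-- the dimension of `T/Q` (to avoid elaborating quotients of fibre rings). -/
noncomputable def quotDim (T : Type*) [CommRing T] (Q : Ideal T) : WithBot ℕ∞ :=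
  ringKrullDim (T ⧸ Q)

theorem height_comap_add_quotDim (k : Type u) [Field k] (T₀ T : Type u) [CommRing T₀]
    [IsDomain T₀] [Algebra k T₀] [Algebra.FiniteType k T₀] [CommRing T] (f : T₀ →+* T)
    (hf : Function.Surjective f) (Q : Ideal T) [Q.IsPrime] :
    ((Q.comap f).height : WithBot ℕ∞) + quotDim T Q = ringKrullDim T₀ := by
  have h1 := Groth.Agent.H2.DimFG.height_add_ringKrullDim_quotient k T₀ (Q.comap f)
  have h3 : ringKrullDim (T₀ ⧸ Q.comap f) = ringKrullDim (T ⧸ Q) := by
    let π' : T₀ →+* (T ⧸ Q) := (Ideal.Quotient.mk Q).comp f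
    have hπ' : Function.Surjective π' := Ideal.Quotient.mk_surjective.comp hf
    have hker : RingHom.ker π' = Q.comap f := by
      ext x
      simp [π', RingHom.mem_ker, Ideal.Quotient.eq_zero_iff_mem]
    exact ringKrullDim_quot_eq_of_ker π' hπ' _ hker
  unfold quotDim
  rw [← h3, h1]

/-- Lemma M with `quotDim`. -/
theorem exists_notMem_forall_dim_away_le' (k : Type u) [Field k] (T : Type u) [CommRing T]
    [Algebra k T] [Algebra.FiniteType k T] (Q : Ideal T) [Q.IsPrime] :
    ∃ t : T, t ∉ Q ∧ ∀ t' : T, ringKrullDim (Localization.Away (t * t')) ≤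
      (Q.height : WithBot ℕ∞) + quotDim T Q :=
  exists_notMem_forall_dim_away_le k T Q

variable {A P : Type u} [CommRing A] [CommRing P] [Algebra A P] (I : Ideal P)
  (p : Ideal A) [p.IsPrime] (Q' : Ideal (p.Fiber (P ⧸ I))) [Q'.IsPrime]

/-- the dimension formula in the fibre of a polynomial-like ring. -/
theorem height_Pfib_add_dim [IsDomain (p.Fiber P)] [Algebra.FiniteType p.ResidueField (p.Fiber P)] :
    ((Pfib I p Q').height : WithBot ℕ∞) +
      quotDim (p.Fiber (P ⧸ I)) Q' = ringKrullDim (p.Fiber P) :=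
  height_comap_add_quotDim p.ResidueField (p.Fiber P)
    (p.Fiber (P ⧸ I)) (fibMap I p).toRingHom (fibMap_surjective I p) Q'

end Groth.Agent.H8.RGCI
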