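import Mathlib

set_option autoImplicit false
set_option linter.style.haveILetI false

universe u

open MvPolynomial

namespace Groth.Agent.H8.RGCI

section poly
variable {R : Type*} [CommRing R]

/-- `X * C r - 1` is a non-zero-divisor of `R[X]`. -/
theorem isSMulRegular_X_mul_C_sub_one (r : R) :
    IsSMulRegular (Polynomial R) (Polynomial.X * Polynomial.C r - 1 : Polynomial R) := by
  rw [isSMulRegular_iff_right_eq_zero_of_smul]
  intro u hu
  rw [smul_eq_mul] at hu
  have h0 : ∀ k, u.coeff k = 0 := by
    intro k
    induction k with
    | zero =>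
      have := congrArg (fun p => Polynomial.coeff p 0) hu
      simp only [sub_mul, one_mul, mul_assoc, Polynomial.coeff_sub, Polynomial.coeff_X_mul_zero,
        Polynomial.coeff_zero, zero_sub, neg_eq_zero] at this
      exact this
    | succ k ih =>
      have := congrArg (fun p => Polynomial.coeff p (k + 1)) hu
      simp only [sub_mul, one_mul, mul_assoc, Polynomial.coeff_sub, Polynomial.coeff_X_mul,
        Polynomial.coeff_C_mul, Polynomial.coeff_zero, ih, mul_zero, zero_sub, neg_eq_zero] at this
      exact this
  ext k
  simp [h0 k]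

end poly

variable {k : Type u} [CommRing k] {n : ℕ}

lemma finSuccEquiv_rename_succ (G : MvPolynomial (Fin n) k) :
    finSuccEquiv k n (rename Fin.succ G) = Polynomial.C G := by
  have : ((finSuccEquiv k n).toAlgHom.comp (rename Fin.succ)) =
      (Algebra.ofId (MvPolynomial (Fin n) k) (Polynomial (MvPolynomial (Fin n) k))).restrictScalars k := by
    apply MvPolynomial.algHom_ext
    intro i
    simp [finSuccEquiv_X_succ, Algebra.ofId_apply]
  exact congr($this G)

/-- `X 0 * G - 1` is a non-zero-divisor of the polynomial ring in one more variable. -/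
theorem isSMulRegular_X_zero_mul_sub_one (G : MvPolynomial (Fin n) k) :
    IsSMulRegular (MvPolynomial (Fin (n + 1)) k)
      (X 0 * rename Fin.succ G - 1 : MvPolynomial (Fin (n + 1)) k) := by
  rw [isSMulRegular_iff_right_eq_zero_of_smul]
  intro u hu
  rw [smul_eq_mul] at hu
  have h1 := congrArg (finSuccEquiv k n) hu
  rw [map_mul, map_sub, map_mul, map_one, finSuccEquiv_X_zero, finSuccEquiv_rename_succ,
    map_zero] at h1
  have h2 := isSMulRegular_iff_right_eq_zero_of_smul.mp (isSMulRegular_X_mul_C_sub_one G)
    _ h1
  exact (finSuccEquiv k n).injective (h2.trans (map_zero _).symm)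

end Groth.Agent.H8.RGCI
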