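import Mathlib
import Groth.Agent.Lib.Helper8.RGCI.AwayPres
import Groth.Agent.Lib.Helper8.RGCI.RegElt
import Groth.Agent.Lib.Helper1.RegSpread

set_option autoImplicit false
set_option linter.style.haveILetI false

universe u

open MvPolynomial RingTheory.Sequence

namespace Groth.Agent.H8.RGCI

open Groth.Agent.H1

variable {A : Type u} [CommRing A] {m : ℕ} (t : MvPolynomial (Fin m) A)

/-- the presentation `A[x, z] → A[x]_t`. -/
noncomputable abbrev phi1 : MvPolynomial (Fin (m + 1)) A →ₐ[A] Localization.Away t :=
  phi' (AlgHom.id A (MvPolynomial (Fin m) A)) t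

/-- the equation `z t - 1`. -/
noncomputable abbrev P0 : MvPolynomial (Fin (m + 1)) A := X 0 * rename Fin.succ t - 1

lemma phi1_rename (y : MvPolynomial (Fin m) A) :
    phi1 t (rename Fin.succ y) = algebraMap _ (Localization.Away t) y :=
  phi'_rename (AlgHom.id A (MvPolynomial (Fin m) A)) t y

lemma phi1_surjective : Function.Surjective (phi1 t) :=
  phi'_surjective (AlgHom.id A (MvPolynomial (Fin m) A)) Function.surjective_id t

lemma ker_phi1 : RingHom.ker (phi1 t).toRingHom = Ideal.span {P0 t} := by
  have h := ker_phi' (AlgHom.id A (MvPolynomial (Fin m) A)) (Fin.elim0 : Fin 0 → _)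
    Function.surjective_id t t rfl (fun i => i.elim0) (fun x hx => ⟨0, by
      have : x = 0 := hx
      rw [this, mul_zero]
      exact Ideal.zero_mem _⟩)
  rw [h]
  congr 1
  ext x
  simp only [Set.mem_range, Set.mem_singleton_iff]
  constructor
  · rintro ⟨i, rfl⟩
    fin_cases i
    simp [rel']
  · rintro rfl
    exact ⟨0, by simp [rel']⟩

lemma phi1_P0 : phi1 t (P0 t) = 0 := by
  have : P0 t ∈ RingHom.ker (phi1 t).toRingHom := by
    rw [ker_phi1]
    exact Ideal.subset_span rfl
  exact this

lemma map_phi1_ofList (l : List (MvPolynomial (Fin m) A)) :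
    (Ideal.ofList (P0 t :: l.map (rename Fin.succ))).map (phi1 t).toRingHom =
      Ideal.ofList (l.map (algebraMap _ (Localization.Away t))) := by
  rw [Ideal.map_ofList, List.map_cons, Ideal.ofList_cons, List.map_map]
  have h1 : (phi1 t).toRingHom (P0 t) = 0 := phi1_P0 t
  rw [h1]
  have h2 : (⇑(phi1 t).toRingHom ∘ ⇑(rename Fin.succ)) =
      ⇑(algebraMap (MvPolynomial (Fin m) A) (Localization.Away t)) := by
    funext y
    exact phi1_rename t y
  rw [h2]
  simp

/-- preimage of the ideal generated by a list in the localization. -/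
lemma mem_ofList_cons_of_phi1_mem (l : List (MvPolynomial (Fin m) A))
    (y : MvPolynomial (Fin (m + 1)) A)
    (hy : phi1 t y ∈ Ideal.ofList (l.map (algebraMap _ (Localization.Away t)))) :
    y ∈ Ideal.ofList (P0 t :: l.map (rename Fin.succ)) := by
  rw [← map_phi1_ofList] at hy
  obtain ⟨z, hz, hzy⟩ := (Ideal.mem_map_iff_of_surjective (phi1 t).toRingHom
    (phi1_surjective t)).mp hy
  have h1 : y - z ∈ RingHom.ker (phi1 t).toRingHom := by
    rw [RingHom.mem_ker, map_sub, hzy]
    exact sub_self _
  rw [ker_phi1] at h1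
  have h2 : y = (y - z) + z := by ring
  rw [h2]
  refine Ideal.add_mem _ ?_ hz
  rw [Ideal.ofList_cons]
  exact Ideal.mem_sup_left h1

/-- weak regularity in `A[x]_t` gives weak regularity in `A[x,z]` after adding `zt - 1`. -/
theorem isWeaklyRegular_cons_P0 (ys : List (MvPolynomial (Fin m) A))
    (hwr : IsWeaklyRegular (Localization.Away t) (ys.map (algebraMap _ (Localization.Away t)))) :
    IsWeaklyRegular (MvPolynomial (Fin (m + 1)) A) (P0 t :: ys.map (rename Fin.succ)) := by
  rw [Spread.isWeaklyRegular_iff_forall_mem] at hwr ⊢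
  intro i hi y hy
  rcases i with _ | j
  · simp only [List.take_zero, Ideal.ofList_nil, List.getElem_cons_zero] at hy ⊢
    have h0 : (P0 t) • y = 0 := hy
    have := isSMulRegular_iff_right_eq_zero_of_smul.mp (isSMulRegular_X_zero_mul_sub_one t) y h0
    rw [this]
    exact Ideal.zero_mem _
  · simp only [List.take_succ_cons, List.getElem_cons_succ, List.getElem_map] at hy ⊢
    have hj : j < ys.length := by simpa using hi
    rw [← List.map_take] at hy ⊢
    apply mem_ofList_cons_of_phi1_mem
    have h1 : phi1 t (rename Fin.succ ys[j] * y) ∈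
        Ideal.ofList ((ys.take j).map (algebraMap _ (Localization.Away t))) := by
      rw [← map_phi1_ofList]
      exact Ideal.mem_map_of_mem _ hy
    rw [map_mul, phi1_rename] at h1
    have h2 := hwr j (by simpa using hj) (phi1 t y)
    rw [List.getElem_map, ← List.map_take] at h2
    exact h2 h1

end Groth.Agent.H8.RGCI
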