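import Mathlib
import Groth.Prelude
import Groth.Agent.Lib.Helper8.RGCI.RegT
import Groth.Agent.Lib.Helper8.Synt.KR
import Groth.Agent.Lib.Helper8.CI.LCILocal

set_option autoImplicit false
set_option linter.style.haveILetI false

universe u

open MvPolynomial RingTheory.Sequence

namespace Groth.Agent.H8.RGCI

open Groth.Agent.H1 Groth.Agent.H8.Synt

section lists
variable {T : Type*} [CommRing T]

lemma ofList_ofFn' {d : ℕ} (Pf : Fin d → T) :
    Ideal.ofList (List.ofFn Pf) = Ideal.span (Set.range Pf) := by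
  unfold Ideal.ofList
  congr 1
  ext x
  simp [List.mem_ofFn]

lemma ofList_eq_span_range_get (l : List T) : Ideal.ofList l = Ideal.span (Set.range l.get) := by
  unfold Ideal.ofList
  congr 1
  ext x
  simp only [Set.mem_ofPred_eq, Set.mem_range]
  exact List.mem_iff_get
end lists

variable {A : Type u} [CommRing A] {m : ℕ}

lemma ofFn_rel' (ys : List (MvPolynomial (Fin m) A)) (t : MvPolynomial (Fin m) A) :
    List.ofFn (rel' ys.get t) = P0 t :: ys.map (rename Fin.succ) := by
  rw [List.ofFn_succ]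
  congr 1
  simp only [rel', Fin.cons_succ]
  apply List.ext_getElem
  · simp
  · intro i h1 h2
    simp

theorem main18938 (A : Type u) [CommRing A] (B : Type u) [CommRing B] [Algebra A B]
    (h : Synt.IsSyntomic A B) (q : PrimeSpectrum B) :
    ∃ g : B, g ∉ q.asIdeal ∧
      ∃ (n d : ℕ) (P : Fin d → MvPolynomial (Fin n) A),
        RingTheory.Sequence.IsRegular (MvPolynomial (Fin n) A) (List.ofFn P) ∧
        Nonempty (Localization.Away g ≃ₐ[A]
          (MvPolynomial (Fin n) A ⧸ Ideal.ofList (List.ofFn P))) := by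
  obtain ⟨hflat, hfp, hfib⟩ := h
  obtain ⟨m, f, hf, hfg⟩ := Algebra.FinitePresentation.out (R := A) (A := B)
  set I := RingHom.ker f.toRingHom with hI
  let e : (MvPolynomial (Fin m) A ⧸ I) ≃ₐ[A] B := Ideal.quotientKerAlgEquivOfSurjective hf
  haveI : Module.Flat A (MvPolynomial (Fin m) A ⧸ I) :=
    Module.Flat.of_linearEquiv e.toLinearEquiv
  let q' : Ideal (MvPolynomial (Fin m) A) := q.asIdeal.comap f
  haveI : q'.IsPrime := Ideal.comap_isPrime _ _
  have hIq' : I ≤ q' := by
    intro x hx
    show f x ∈ q.asIdeal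
    have : f x = 0 := hx
    rw [this]
    exact Ideal.zero_mem _
  haveI : IsRegularRing ((q'.comap (algebraMap A (MvPolynomial (Fin m) A))).Fiber
      (MvPolynomial (Fin m) A)) :=
    IsRegularRing.of_ringEquiv (MvPolynomial.algebraTensorAlgEquiv A
      (q'.comap (algebraMap A (MvPolynomial (Fin m) A))).ResidueField (σ := Fin m)).symm.toRingEquiv
  have hlci : Synt.IsLCIOver (q'.comap (algebraMap A (MvPolynomial (Fin m) A))).ResidueField
      ((q'.comap (algebraMap A (MvPolynomial (Fin m) A))).Fiber (MvPolynomial (Fin m) A ⧸ I)) := by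
    have e' : (q'.comap (algebraMap A (MvPolynomial (Fin m) A))).Fiber B ≃ₐ[
        (q'.comap (algebraMap A (MvPolynomial (Fin m) A))).ResidueField]
        (q'.comap (algebraMap A (MvPolynomial (Fin m) A))).Fiber (MvPolynomial (Fin m) A ⧸ I) :=
      Algebra.TensorProduct.congr AlgEquiv.refl e.symm
    exact Groth.Agent.H8.LCILocal.isLCIOver_of_algEquiv e'
      (hfib ⟨q'.comap (algebraMap A (MvPolynomial (Fin m) A)), inferInstance⟩)
  have hgens := exists_regular_gens_JR (A := A) I q' hIq' _ rfl hlci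
  obtain ⟨t, ht, ys, hys, hwr, hgen⟩ :=
    exists_away_weaklyRegular_of_gens' (A := A) I q' hfg hgens
  have hr : ∀ i, f (ys.get i) = 0 := fun i => hys _ (List.get_mem ys i)
  have hloc : ∀ x, f x = 0 → ∃ k : ℕ, t ^ k * x ∈ Ideal.span (Set.range ys.get) := by
    intro x hx
    have hxI : x ∈ I := hx
    have h1 : algebraMap _ (Localization.Away t) x ∈
        I.map (algebraMap _ (Localization.Away t)) := Ideal.mem_map_of_mem _ hxI
    rw [hgen, ← Ideal.map_ofList, IsLocalization.algebraMap_mem_map_algebraMap_iff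
      (Submonoid.powers t)] at h1
    obtain ⟨_, ⟨k, rfl⟩, hk⟩ := h1
    exact ⟨k, by rwa [← ofList_eq_span_range_get]⟩
  have hker := ker_phi' f ys.get hf (f t) t rfl hr hloc
  refine ⟨f t, ht, m + 1, ys.length + 1, rel' ys.get t, ?_, ?_⟩
  · -- regularity
    have hne : Ideal.ofList (List.ofFn (rel' ys.get t)) ≠ ⊤ := by
      rw [ofList_ofFn', ← hker]
      intro htop
      have h1 : (1 : MvPolynomial (Fin (m + 1)) A) ∈ RingHom.ker (phi' f (f t)).toRingHom :=
        htop ▸ Submodule.mem_top
      rw [RingHom.mem_ker, map_one] at h1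
      -- `B_{f t}` is nontrivial
      have h2 : algebraMap B (Localization.Away (f t)) 1 = 0 := by rw [map_one]; exact h1
      obtain ⟨⟨_, j, rfl⟩, hj⟩ := (IsLocalization.map_eq_zero_iff (Submonoid.powers (f t)) _ _).mp h2
      simp only [mul_one] at hj
      exact ht (Ideal.IsPrime.mem_of_pow_mem q.2 j (hj ▸ q.asIdeal.zero_mem))
    refine ⟨?_, ?_⟩
    · rw [ofFn_rel']
      exact isWeaklyRegular_cons_P0 t ys hwr
    · rw [smul_eq_mul, Ideal.mul_top]
      exact hne.symm
  · -- the isomorphism
    have e1 : (MvPolynomial (Fin (m + 1)) A ⧸ RingHom.ker (phi' f (f t))) ≃ₐ[A]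
        Localization.Away (f t) :=
      Ideal.quotientKerAlgEquivOfSurjective (phi'_surjective f hf (f t))
    have heq : RingHom.ker (phi' f (f t)) = Ideal.ofList (List.ofFn (rel' ys.get t)) := by
      rw [ofList_ofFn']
      exact hker
    exact ⟨e1.symm.trans (Ideal.quotientEquivAlgOfEq A heq)⟩

end Groth.Agent.H8.RGCI
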