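import Mathlib

set_option autoImplicit false
set_option linter.style.haveILetI false

universe u

open MvPolynomial

namespace Groth.Agent.H8.RGCI

section pres

variable {k : Type u} [CommRing k] {n c : ℕ} {S : Type u} [CommRing S] [Algebra k S]
  (φ : MvPolynomial (Fin n) k →ₐ[k] S) (r : Fin c → MvPolynomial (Fin n) k)
  (hsurj : Function.Surjective φ)

variable (g : S)

/-- the presentation of `S_g` (new variable last). -/
noncomputable def phiS : MvPolynomial (Fin (n + 1)) k →ₐ[k] Localization.Away g :=
  aeval (Fin.snoc (α := fun _ => Localization.Away g)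
    (fun i => algebraMap S (Localization.Away g) (φ (X i))) (IsLocalization.Away.invSelf g))

/-- the relations of `S_g` (new relation last). -/
noncomputable def relS (G : MvPolynomial (Fin n) k) : Fin (c + 1) → MvPolynomial (Fin (n + 1)) k :=
  Fin.snoc (α := fun _ => MvPolynomial (Fin (n + 1)) k)
    (fun i => rename Fin.castSucc (r i)) (rename Fin.castSucc G * X (Fin.last n) - 1)

@[simp] lemma phiS_X_last : phiS φ g (X (Fin.last n)) = IsLocalization.Away.invSelf g := by
  simp [phiS]

@[simp] lemma phiS_X_castSucc (i : Fin n) :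
    phiS φ g (X i.castSucc) = algebraMap S (Localization.Away g) (φ (X i)) := by
  simp [phiS]

lemma phiS_rename (p : MvPolynomial (Fin n) k) :
    phiS φ g (rename Fin.castSucc p) = algebraMap S (Localization.Away g) (φ p) := by
  have : (phiS φ g).comp (rename Fin.castSucc) =
      (IsScalarTower.toAlgHom k S (Localization.Away g)).comp φ := by
    apply MvPolynomial.algHom_ext
    intro i
    simp
  exact congr($this p)

include hsurj in
lemma phiS_surjective : Function.Surjective (phiS φ g) := by
  intro z
  obtain ⟨m, a, hz⟩ := IsLocalization.Away.surj g z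
  obtain ⟨p, rfl⟩ := hsurj a
  refine ⟨rename Fin.castSucc p * X (Fin.last n) ^ m, ?_⟩
  rw [map_mul, map_pow, phiS_rename, phiS_X_last, ← hz, mul_assoc, ← mul_pow,
    IsLocalization.Away.mul_invSelf, one_pow, mul_one]

include hsurj in
/-- the kernel of the presentation of `S_g`, when the kernel of `φ` is generated by the `r i` up
to powers of `G`. -/
lemma ker_phiS (G : MvPolynomial (Fin n) k) (hG : φ G = g) (hr : ∀ i, φ (r i) = 0)
    (hloc : ∀ x, φ x = 0 → ∃ m : ℕ, G ^ m * x ∈ Ideal.span (Set.range r)) :
    RingHom.ker (phiS φ g).toRingHom = Ideal.span (Set.range (relS r G)) := by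
  apply le_antisymm
  · set K := Ideal.span (Set.range (relS r G)) with hK
    let α : MvPolynomial (Fin n) k →+* MvPolynomial (Fin (n + 1)) k ⧸ K :=
      (Ideal.Quotient.mk K).comp (rename Fin.castSucc : _ →ₐ[k] _).toRingHom
    have hmul : α G * Ideal.Quotient.mk K (X (Fin.last n)) = 1 := by
      simp only [α, RingHom.comp_apply]
      rw [← map_mul, ← map_one (Ideal.Quotient.mk K), Ideal.Quotient.eq]
      refine Ideal.subset_span ⟨Fin.last c, ?_⟩
      simp only [relS, Fin.snoc_last, AlgHom.toRingHom_eq_coe, RingHom.coe_coe]
    have hαr : ∀ y ∈ Ideal.span (Set.range r), α y = 0 := by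
      intro y hy
      have : Ideal.span (Set.range r) ≤ RingHom.ker α := by
        rw [Ideal.span_le]
        rintro _ ⟨i, rfl⟩
        show α (r i) = 0
        simp only [α, RingHom.comp_apply]
        rw [Ideal.Quotient.eq_zero_iff_mem]
        exact Ideal.subset_span ⟨i.castSucc, by simp [relS]⟩
      exact this hy
    have hα : RingHom.ker φ.toRingHom ≤ RingHom.ker α := by
      intro x hx
      obtain ⟨m, hm⟩ := hloc x hx
      have h1 : α (G ^ m * x) = 0 := hαr _ hm
      rw [map_mul, map_pow] at h1
      have hu : IsUnit (α G) := IsUnit.of_mul_eq_one _ hmul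
      rw [RingHom.mem_ker]
      exact (hu.pow m).mul_right_eq_zero.mp h1
    let β : S →+* MvPolynomial (Fin (n + 1)) k ⧸ K :=
      φ.toRingHom.liftOfSurjective hsurj ⟨α, hα⟩
    have hβ : ∀ p, β (φ p) = α p := fun p =>
      RingHom.liftOfRightInverse_comp_apply _ _ _ _ p
    have hunit : IsUnit (β g) := by
      rw [← hG, hβ]
      exact IsUnit.of_mul_eq_one _ hmul
    let ψ : Localization.Away g →+* MvPolynomial (Fin (n + 1)) k ⧸ K :=
      IsLocalization.Away.lift g hunit
    have hψ : ∀ s, ψ (algebraMap S _ s) = β s := fun s => IsLocalization.Away.lift_eq g hunit s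
    have key : ψ.comp (phiS φ g).toRingHom = Ideal.Quotient.mk K := by
      apply MvPolynomial.ringHom_ext
      · intro a
        have h1 : (phiS φ g) (C a) = algebraMap S (Localization.Away g) (φ (C a)) := by
          rw [← phiS_rename]
          simp
        simp only [RingHom.comp_apply, AlgHom.toRingHom_eq_coe, RingHom.coe_coe]
        rw [h1, hψ, hβ]
        simp [α]
      · intro j
        simp only [RingHom.comp_apply, AlgHom.toRingHom_eq_coe, RingHom.coe_coe]
        refine Fin.lastCases ?_ (fun i => ?_) j
        · rw [phiS_X_last]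
          have h1 : ψ (IsLocalization.Away.invSelf g) * β g = 1 := by
            rw [← hψ, ← map_mul, mul_comm, IsLocalization.Away.mul_invSelf, map_one]
          have h2 : Ideal.Quotient.mk K (X (Fin.last n)) * β g = 1 := by
            rw [← hG, hβ, mul_comm]
            exact hmul
          calc ψ (IsLocalization.Away.invSelf g)
              = ψ (IsLocalization.Away.invSelf g) *
                  (β g * Ideal.Quotient.mk K (X (Fin.last n))) := by
                rw [mul_comm (β g), h2, mul_one]
            _ = Ideal.Quotient.mk K (X (Fin.last n)) := by rw [← mul_assoc, h1, one_mul]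
        · rw [phiS_X_castSucc, hψ, hβ]
          simp [α]
    intro x hx
    rw [RingHom.mem_ker] at hx
    have h1 := congr($key x)
    simp only [RingHom.comp_apply] at h1
    rw [hx, map_zero] at h1
    exact Ideal.Quotient.eq_zero_iff_mem.mp h1.symm
  · rw [Ideal.span_le]
    rintro _ ⟨j, rfl⟩
    rw [SetLike.mem_coe, RingHom.mem_ker]
    refine Fin.lastCases ?_ (fun i => ?_) j
    · simp only [relS, Fin.snoc_last, AlgHom.toRingHom_eq_coe, RingHom.coe_coe, map_sub, map_mul,
        map_one, phiS_X_last, phiS_rename, hG]
      rw [IsLocalization.Away.mul_invSelf, sub_self]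
    · simp only [relS, Fin.snoc_castSucc, AlgHom.toRingHom_eq_coe, RingHom.coe_coe, phiS_rename]
      rw [hr i, map_zero]

end pres

end Groth.Agent.H8.RGCI
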