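import Mathlib
import Groth.Agent.Lib.Helper1.Chev1

set_option autoImplicit false
set_option linter.style.haveILetI false

universe u

open TensorProduct

namespace Groth.Agent.H8.RGCI

section away

variable {T : Type*} [CommRing T] (f : T) (A : Type*) [CommRing A] [Algebra T A]
  [IsLocalization.Away f A]

/-- dimension of a principal localization bounded through heights of primes of the ring. -/
theorem ringKrullDim_le_of_away (d : WithBot ℕ∞)
    (H : ∀ P : Ideal T, P.IsPrime → f ∉ P → (P.height : WithBot ℕ∞) ≤ d) :
    ringKrullDim A ≤ d := by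
  rw [ringKrullDim_le_iff_height_le]
  intro J hJ
  rw [← IsLocalization.height_under (Submonoid.powers f) J]
  refine H _ (Ideal.IsPrime.under T J) ?_
  intro hf
  have hu : IsUnit (algebraMap T A f) := IsLocalization.Away.algebraMap_isUnit f
  exact hJ.ne_top (Ideal.eq_top_of_isUnit_mem _ hf hu)

theorem height_le_of_away (d : WithBot ℕ∞) (H : ringKrullDim A ≤ d)
    (P : Ideal T) [P.IsPrime] (hf : f ∉ P) : (P.height : WithBot ℕ∞) ≤ d := by
  have hdis : Disjoint (Submonoid.powers f : Set T) (P : Set T) := by
    rw [Set.disjoint_left]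
    rintro x ⟨m, rfl⟩ hx
    exact hf (Ideal.IsPrime.mem_of_pow_mem inferInstance m hx)
  have hP : (P.map (algebraMap T A)).IsPrime :=
    IsLocalization.isPrime_of_isPrime_disjoint (Submonoid.powers f) A P inferInstance hdis
  rw [← IsLocalization.height_map_of_disjoint (S := A) (Submonoid.powers f) P hdis]
  exact (Ideal.height_le_ringKrullDim_of_ne_top hP.ne_top).trans H

end away

end Groth.Agent.H8.RGCI
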