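import Mathlib
import Groth.Agent.Lib.Helper1.Chev1
import Groth.Agent.Lib.Helper8.RGCI.DimAway

set_option autoImplicit false
set_option linter.style.haveILetI false

universe u

open TensorProduct

namespace Groth.Agent.H8.RGCI

section good

variable (R S : Type u) [CommRing R] [CommRing S] [Algebra R S] (d : WithBot ℕ∞)

/-- the ideal of elements `h` of `S` such that all fibres of `S_h` have dimension `≤ d`
(phrased through heights of primes of `L ⊗ S` not containing `1 ⊗ h`). -/
def goodIdeal : Ideal S where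
  carrier := {h | ∀ (L : Type u) [Field L] [Algebra R L] (P : Ideal (L ⊗[R] S)), P.IsPrime →
    ((1 : L) ⊗ₜ[R] h) ∉ P → (P.height : WithBot ℕ∞) ≤ d}
  add_mem' := by
    intro a b ha hb L _ _ P hP hab
    by_cases h1 : ((1 : L) ⊗ₜ[R] a) ∈ P
    · refine hb L P hP (fun h2 => hab ?_)
      rw [TensorProduct.tmul_add]
      exact P.add_mem h1 h2
    · exact ha L P hP h1
  zero_mem' := by
    intro L _ _ P hP h0
    exact absurd (by rw [TensorProduct.tmul_zero]; exact P.zero_mem) h0
  smul_mem' := by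
    intro s a ha L _ _ P hP hsa
    refine ha L P hP (fun h1 => hsa ?_)
    have : ((1 : L) ⊗ₜ[R] (s • a)) = ((1 : L) ⊗ₜ[R] s) * ((1 : L) ⊗ₜ[R] a) := by
      rw [Algebra.TensorProduct.tmul_mul_tmul, one_mul, smul_eq_mul]
    rw [this]
    exact P.mul_mem_left _ h1

variable {R S d}

theorem mem_goodIdeal_iff (h : S) : h ∈ goodIdeal R S d ↔
    ∀ (L : Type u) [Field L] [Algebra R L] (P : Ideal (L ⊗[R] S)), P.IsPrime →
    ((1 : L) ⊗ₜ[R] h) ∉ P → (P.height : WithBot ℕ∞) ≤ d := Iff.rfl

/-- the localization structure on `L ⊗ S_h` over `L ⊗ S`. -/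
theorem isLocalization_away_tensor (h : S) (S' : Type u) [CommRing S'] [Algebra S S'] [Algebra R S']
    [IsScalarTower R S S'] [IsLocalization.Away h S'] (L : Type u) [CommRing L] [Algebra R L] :
    letI : Algebra (L ⊗[R] S) (L ⊗[R] S') :=
      (Algebra.TensorProduct.map (AlgHom.id R L) (IsScalarTower.toAlgHom R S S')).toRingHom.toAlgebra
    IsLocalization.Away ((1 : L) ⊗ₜ[R] h) (L ⊗[R] S') := by
  letI : Algebra (L ⊗[R] S) (L ⊗[R] S') :=
    (Algebra.TensorProduct.map (AlgHom.id R L) (IsScalarTower.toAlgHom R S S')).toRingHom.toAlgebra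
  haveI : IsScalarTower L (L ⊗[R] S) (L ⊗[R] S') :=
    .of_algebraMap_eq <| by intro; simp [RingHom.algebraMap_toAlgebra]
  have := IsLocalization.tensorProduct_tensorProduct_right R L (Submonoid.powers h) S'
    (by ext; simp [RingHom.algebraMap_toAlgebra])
  have hm : (Submonoid.powers h).map (Algebra.TensorProduct.includeRight (R := R) (A := L)) =
      Submonoid.powers ((1 : L) ⊗ₜ[R] h) := by
    rw [Submonoid.map_powers]
    rfl
  rw [hm] at this
  exact this

theorem mem_goodIdeal_iff_away (h : S) (S' : Type u) [CommRing S'] [Algebra S S'] [Algebra R S']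
    [IsScalarTower R S S'] [IsLocalization.Away h S'] :
    h ∈ goodIdeal R S d ↔
      ∀ (L : Type u) [Field L] [Algebra R L], ringKrullDim (L ⊗[R] S') ≤ d := by
  constructor
  · intro hh L _ _
    letI : Algebra (L ⊗[R] S) (L ⊗[R] S') :=
      (Algebra.TensorProduct.map (AlgHom.id R L)
        (IsScalarTower.toAlgHom R S S')).toRingHom.toAlgebra
    haveI := isLocalization_away_tensor (R := R) h S' L
    exact ringKrullDim_le_of_away ((1 : L) ⊗ₜ[R] h) (L ⊗[R] S') d (fun P hP hf => hh L P hP hf)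
  · intro H L _ _ P hP hf
    letI : Algebra (L ⊗[R] S) (L ⊗[R] S') :=
      (Algebra.TensorProduct.map (AlgHom.id R L)
        (IsScalarTower.toAlgHom R S S')).toRingHom.toAlgebra
    haveI := isLocalization_away_tensor (R := R) h S' L
    exact height_le_of_away ((1 : L) ⊗ₜ[R] h) (L ⊗[R] S') d (H L) P hf

/-- Chevalley: a prime whose fibre has dimension `≤ n` does not contain the good ideal. -/
theorem exists_mem_goodIdeal_notMem [Algebra.FiniteType R S] (q : PrimeSpectrum S) (n : ℕ)
    (hn : Groth.Agent.H1.FibDim.fibDim R S (q.comap (algebraMap R S)) ≤ n) :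
    ∃ h ∈ goodIdeal R S (n : WithBot ℕ∞), h ∉ q.asIdeal := by
  obtain ⟨h, hq, H⟩ := Groth.Agent.H1.Chev.exists_away_forall_dim_le R S q n hn
  exact ⟨h, (mem_goodIdeal_iff_away h (Localization.Away h)).mpr (fun L _ _ => H L), hq⟩

end good

end Groth.Agent.H8.RGCI
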