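import Mathlib
import Groth.Prelude
import Groth.Agent.Lib.Helper8.RGCI.Main9254
import Groth.Agent.Lib.Helper8.CI.LCILocal

set_option autoImplicit false
set_option linter.style.haveILetI false

universe u

open TensorProduct Algebra MvPolynomial RingTheory.Sequence

namespace Groth.Agent.H8.RGCI

open Groth.Agent.H1 Groth.Agent.H8.LCI Groth.Agent.H8.GCI

variable {R : Type u} [CommRing R] {n c : ℕ} (F : Fin c → MvPolynomial (Fin n) R)

lemma ofList_ofFn : Ideal.ofList (List.ofFn F) = Ideal.span (Set.range F) := by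
  unfold Ideal.ofList
  congr 1
  ext x
  exact mem_ofFn_iff F x

/-- a relative global complete intersection is flat. -/
theorem flat_of_isRelGCI (h : Synt.IsRelGCI R n c F) :
    Module.Flat R (MvPolynomial (Fin n) R ⧸ Ideal.span (Set.range F)) := by
  apply Module.flat_of_isLocalized_maximal (MvPolynomial (Fin n) R)
    (MvPolynomial (Fin n) R ⧸ Ideal.span (Set.range F))
    (fun q _ => LocalizedModule q.primeCompl (MvPolynomial (Fin n) R ⧸ Ideal.span (Set.range F)))
    (fun q _ => LocalizedModule.mkLinearMap q.primeCompl _)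
  intro q hq
  haveI := hq.isPrime
  by_cases hF : Ideal.span (Set.range F) ≤ q
  · have hfib := isRegular_fibLoc_of_isRelGCI F h q hF
    haveI := flat_localizedModule_quot_of_fibre (A := R) q (List.ofFn F) hfib.toIsWeaklyRegular
      (List.ofFn F).length le_rfl
    have heq : (Ideal.ofList ((List.ofFn F).take (List.ofFn F).length) •
        (⊤ : Submodule (MvPolynomial (Fin n) R) (MvPolynomial (Fin n) R))) =
        Ideal.span (Set.range F) := by
      rw [List.take_length, smul_top_self, ofList_ofFn]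
    exact LimFlat.flat_localizedModule_congr q.primeCompl (Submodule.quotEquivOfEq _ _ heq)
  · obtain ⟨x, hxI, hxq⟩ := SetLike.not_le_iff_exists.mp hF
    haveI : Subsingleton (LocalizedModule q.primeCompl
        (MvPolynomial (Fin n) R ⧸ Ideal.span (Set.range F))) := by
      rw [LocalizedModule.subsingleton_iff]
      intro m
      refine ⟨x, hxq, ?_⟩
      obtain ⟨y, rfl⟩ := Ideal.Quotient.mk_surjective m
      show Ideal.Quotient.mk _ (x * y) = 0
      rw [Ideal.Quotient.eq_zero_iff_mem]
      exact Ideal.mul_mem_right _ _ hxI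
    infer_instance

end Groth.Agent.H8.RGCI

namespace Groth.Agent.H8.RGCI
open TensorProduct Algebra MvPolynomial RingTheory.Sequence
open Groth.Agent.H1 Groth.Agent.H8.LCI Groth.Agent.H8.GCI

variable {R : Type u} [CommRing R] {n c : ℕ} (F : Fin c → MvPolynomial (Fin n) R)

/-- the fibre of the quotient, as an algebra over the residue field. -/
noncomputable def fibQuotAlgEquiv (p : Ideal R) [p.IsPrime] :
    p.Fiber (MvPolynomial (Fin n) R ⧸ Ideal.span (Set.range F)) ≃ₐ[p.ResidueField]
      (MvPolynomial (Fin n) p.ResidueField ⧸ JJ (Fbar F p)) :=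
  (Algebra.TensorProduct.tensorQuotientEquiv (R := R) p.ResidueField (MvPolynomial (Fin n) R)
    p.ResidueField (Ideal.span (Set.range F))).trans
    (Ideal.quotientEquivAlg _ _ (eT (n := n) p) (map_eT_span F p).symm)

theorem isLCIOver_fiber_of_isRelGCI (h : Synt.IsRelGCI R n c F) (p : PrimeSpectrum R) :
    Synt.IsLCIOver p.asIdeal.ResidueField
      (p.asIdeal.Fiber (MvPolynomial (Fin n) R ⧸ Ideal.span (Set.range F))) := by
  by_cases hnt : Nontrivial (p.asIdeal.Fiber (MvPolynomial (Fin n) R ⧸ Ideal.span (Set.range F)))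
  · obtain ⟨hcn, hdim⟩ := h p hnt
    have hdim' : ringKrullDim (MvPolynomial (Fin n) p.asIdeal.ResidueField ⧸
        JJ (Fbar F p.asIdeal)) = ((n - c : ℕ) : WithBot ℕ∞) := by
      rw [← ringKrullDim_eq_of_ringEquiv
        (R := p.asIdeal.Fiber (MvPolynomial (Fin n) R ⧸ Ideal.span (Set.range F)))
        (S := MvPolynomial (Fin n) p.asIdeal.ResidueField ⧸ JJ (Fbar F p.asIdeal))
        (fibQuotEquiv F p.asIdeal), hdim]
    have hgci : Synt.IsGlobalCI p.asIdeal.ResidueField
        (MvPolynomial (Fin n) p.asIdeal.ResidueField ⧸ JJ (Fbar F p.asIdeal)) :=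
      Or.inr ⟨n, c, hcn, Ideal.Quotient.mkₐ p.asIdeal.ResidueField (JJ (Fbar F p.asIdeal)),
        Fbar F p.asIdeal,
        Ideal.Quotient.mkₐ_surjective p.asIdeal.ResidueField (JJ (Fbar F p.asIdeal)),
        Ideal.Quotient.mkₐ_ker p.asIdeal.ResidueField (JJ (Fbar F p.asIdeal)), hdim'⟩
    exact Groth.Agent.H8.LCILocal.isLCIOver_of_algEquiv (fibQuotAlgEquiv F p.asIdeal).symm
      (Groth.Agent.H8.CILocal.isLCIOver_of_isGlobalCI _ inferInstance hgci)
  · rw [not_nontrivial_iff_subsingleton] at hnt
    refine ⟨inferInstance, fun q => ?_⟩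
    exact absurd (Subsingleton.elim _ _) q.2.ne_top

theorem isSyntomic_of_isRelGCI (h : Synt.IsRelGCI R n c F) :
    Synt.IsSyntomic R (Synt.RelGCIRing R n c F) :=
  ⟨flat_of_isRelGCI F h,
    Algebra.FinitePresentation.quotient (Submodule.fg_span (Set.finite_range F)),
    isLCIOver_fiber_of_isRelGCI F h⟩

end Groth.Agent.H8.RGCI
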