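import Mathlib
import Groth.Prelude
import Groth.Agent.Lib.Helper8.RGCI.Main9147
import Groth.Agent.Lib.Helper8.RGCI.Good
import Groth.Agent.Lib.Helper8.RGCI.AwaySnoc
import Groth.Agent.Lib.Helper8.GCI.Smooth

set_option autoImplicit false
set_option linter.style.haveILetI false

universe u

open TensorProduct Algebra MvPolynomial

namespace Groth.Agent.H8.RGCI

open Groth.Agent.H1 Groth.Agent.H8.LCI Groth.Agent.H8.GCI

variable {R : Type u} [CommRing R] {n c : ℕ} (F : Fin c → MvPolynomial (Fin n) R)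

section general

variable (L : Type u) [CommRing L] [Algebra R L]

/-- base change of the equations. -/
noncomputable def FL : Fin c → MvPolynomial (Fin n) L :=
  fun i => MvPolynomial.map (algebraMap R L) (F i)

lemma map_eTL_span :
    ((Ideal.span (Set.range F)).map (Algebra.TensorProduct.includeRight :
      MvPolynomial (Fin n) R →ₐ[R] L ⊗[R] (MvPolynomial (Fin n) R))).map
      ((MvPolynomial.algebraTensorAlgEquiv R L (σ := Fin n)) :
        L ⊗[R] (MvPolynomial (Fin n) R) →+* MvPolynomial (Fin n) L) =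
    Ideal.span (Set.range (FL F L)) := by
  have h2 : (Ideal.span (Set.range F)).map (Algebra.TensorProduct.includeRight :
      MvPolynomial (Fin n) R →ₐ[R] L ⊗[R] (MvPolynomial (Fin n) R)) =
      (Ideal.span (Set.range F)).map (Algebra.TensorProduct.includeRight :
      MvPolynomial (Fin n) R →ₐ[R] L ⊗[R] (MvPolynomial (Fin n) R)).toRingHom := rfl
  rw [h2, Ideal.map_map, Ideal.map_span]
  congr 1
  ext x
  simp only [Set.mem_image, Set.mem_range]
  have key : ∀ f : MvPolynomial (Fin n) R,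
      (MvPolynomial.algebraTensorAlgEquiv R L (σ := Fin n)) ((1 : L) ⊗ₜ[R] f) =
        MvPolynomial.map (algebraMap R L) f := by
    intro f
    rw [MvPolynomial.algebraTensorAlgEquiv_tmul, one_smul]
  constructor
  · rintro ⟨_, ⟨i, rfl⟩, rfl⟩
    exact ⟨i, (key (F i)).symm⟩
  · rintro ⟨i, rfl⟩
    exact ⟨F i, ⟨i, rfl⟩, key (F i)⟩

/-- `L ⊗ R[x]/(F) ≃ L[x]/(F_L)`. -/
noncomputable def tensorQuotEquiv :
    L ⊗[R] (MvPolynomial (Fin n) R ⧸ Ideal.span (Set.range F)) ≃ₐ[L]
      (MvPolynomial (Fin n) L ⧸ Ideal.span (Set.range (FL F L))) :=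
  (Algebra.TensorProduct.tensorQuotientEquiv (R := R) L (MvPolynomial (Fin n) R)
    L (Ideal.span (Set.range F))).trans
    (Ideal.quotientEquivAlg _ _ (MvPolynomial.algebraTensorAlgEquiv R L (σ := Fin n))
      (map_eTL_span F L).symm)

end general

/-- the snoc presentation of `S_g`. -/
lemma relS_eq (h : MvPolynomial (Fin n) R) :
    relS F h = Fin.snoc (α := fun _ => MvPolynomial (Fin (n + 1)) R)
      (fun i => rename Fin.castSucc (F i)) (rename Fin.castSucc h * X (Fin.last n) - 1) := rfl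

/-- `S_g ≃ R[x_1..x_{n+1}]/(F, h x_{n+1} - 1)`. -/
noncomputable def awayEquivSnoc (h : MvPolynomial (Fin n) R) :
    Localization.Away (Ideal.Quotient.mk (Ideal.span (Set.range F)) h) ≃ₐ[R]
      (MvPolynomial (Fin (n + 1)) R ⧸ Ideal.span (Set.range (relS F h))) := by
  set φ : MvPolynomial (Fin n) R →ₐ[R] (MvPolynomial (Fin n) R ⧸ Ideal.span (Set.range F)) :=
    Ideal.Quotient.mkₐ R (Ideal.span (Set.range F)) with hφ
  have hsurj : Function.Surjective φ := Ideal.Quotient.mkₐ_surjective R _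
  have hr : ∀ i, φ (F i) = 0 := by
    intro i
    show Ideal.Quotient.mk _ (F i) = 0
    rw [Ideal.Quotient.eq_zero_iff_mem]
    exact Ideal.subset_span ⟨i, rfl⟩
  have hloc : ∀ x, φ x = 0 → ∃ m : ℕ, h ^ m * x ∈ Ideal.span (Set.range F) := by
    intro x hx
    refine ⟨0, ?_⟩
    rw [pow_zero, one_mul]
    exact Ideal.Quotient.eq_zero_iff_mem.mp hx
  have hker := ker_phiS φ F hsurj (φ h) h rfl hr hloc
  exact ((Ideal.quotientKerAlgEquivOfSurjective (phiS_surjective φ hsurj (φ h))).symm).trans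
    (Ideal.quotientEquivAlgOfEq R hker)

end Groth.Agent.H8.RGCI
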