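import Mathlib
import Groth.Prelude
import Groth.Agent.Lib.Helper8.RGCI.Main9173a

set_option autoImplicit false
set_option linter.style.haveILetI false

universe u

open TensorProduct Algebra MvPolynomial

namespace Groth.Agent.H8.RGCI

open Groth.Agent.H1 Groth.Agent.H8.LCI Groth.Agent.H8.GCI

variable {R : Type u} [CommRing R] {n c : ℕ} (F : Fin c → MvPolynomial (Fin n) R)

/-- if all fibres of `S_g` have dimension `≤ n - c`, the snoc presentation of `S_g` is a relative
global complete intersection. -/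
theorem isRelGCI_relS_of_mem_goodIdeal (hcn : c ≤ n) (h : MvPolynomial (Fin n) R)
    (hg : Ideal.Quotient.mk (Ideal.span (Set.range F)) h ∈
      goodIdeal R (MvPolynomial (Fin n) R ⧸ Ideal.span (Set.range F))
        ((n - c : ℕ) : WithBot ℕ∞)) :
    Synt.IsRelGCI R (n + 1) (c + 1) (relS F h) := by
  intro p hnt
  refine ⟨by omega, le_antisymm ?_ ?_⟩
  · have h1 := (mem_goodIdeal_iff_away _
      (Localization.Away (Ideal.Quotient.mk (Ideal.span (Set.range F)) h))).mp hg
      p.asIdeal.ResidueField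
    have e : p.asIdeal.ResidueField ⊗[R]
        Localization.Away (Ideal.Quotient.mk (Ideal.span (Set.range F)) h) ≃ₐ[p.asIdeal.ResidueField]
        p.asIdeal.ResidueField ⊗[R]
          (MvPolynomial (Fin (n + 1)) R ⧸ Ideal.span (Set.range (relS F h))) :=
      Algebra.TensorProduct.congr AlgEquiv.refl (awayEquivSnoc F h)
    rw [ringKrullDim_eq_of_ringEquiv
      (R := p.asIdeal.ResidueField ⊗[R]
        Localization.Away (Ideal.Quotient.mk (Ideal.span (Set.range F)) h))
      (S := p.asIdeal.ResidueField ⊗[R]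
          (MvPolynomial (Fin (n + 1)) R ⧸ Ideal.span (Set.range (relS F h)))) e.toRingEquiv] at h1
    have : n + 1 - (c + 1) = n - c := by omega
    rw [this]
    exact h1
  · have e := fibQuotEquiv (relS F h) p.asIdeal
    haveI : Nontrivial (MvPolynomial (Fin (n + 1)) p.asIdeal.ResidueField ⧸
        JJ (Fbar (relS F h) p.asIdeal)) := e.injective.nontrivial
    have h1 := le_ringKrullDim_quot (Fbar (relS F h) p.asIdeal)
    rw [ringKrullDim_eq_of_ringEquiv
      (R := p.asIdeal.Fiber (MvPolynomial (Fin (n + 1)) R ⧸ Ideal.span (Set.range (relS F h))))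
      (S := MvPolynomial (Fin (n + 1)) p.asIdeal.ResidueField ⧸ JJ (Fbar (relS F h) p.asIdeal)) e]
    exact h1

end Groth.Agent.H8.RGCI

namespace Groth.Agent.H8.RGCI

open Groth.Agent.H1 Groth.Agent.H8.LCI Groth.Agent.H8.GCI

variable {R : Type u} [CommRing R] {n c : ℕ} (F : Fin c → MvPolynomial (Fin n) R)

lemma one_tmul_eq_zero_of_mem_map (p : Ideal R) [p.IsPrime] (S : Type u) [CommRing S] [Algebra R S]
    (x : S) (hx : x ∈ p.map (algebraMap R S)) : ((1 : p.ResidueField) ⊗ₜ[R] x : p.Fiber S) = 0 := by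
  have hle : p.map (algebraMap R S) ≤ RingHom.ker
      (Algebra.TensorProduct.includeRight : S →ₐ[R] p.Fiber S).toRingHom := by
    rw [Ideal.map_le_iff_le_comap]
    intro r hr
    rw [Ideal.mem_comap, RingHom.mem_ker]
    show ((1 : p.ResidueField) ⊗ₜ[R] (algebraMap R S r) : p.Fiber S) = 0
    rw [Algebra.algebraMap_eq_smul_one, ← TensorProduct.smul_tmul, Algebra.smul_def, mul_one,
      (Ideal.algebraMap_residueField_eq_zero).mpr hr, TensorProduct.zero_tmul]
  exact hle hx

/-- finite type instance for the presented algebra. -/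
instance finiteType_quot : Algebra.FiniteType R (MvPolynomial (Fin n) R ⧸ Ideal.span (Set.range F)) :=
  Algebra.FiniteType.of_surjective (Ideal.Quotient.mkₐ R _) (Ideal.Quotient.mkₐ_surjective R _)

theorem main9173 (p : Ideal R) [p.IsPrime]
    (hp : c ≤ n ∧ ringKrullDim (p.Fiber (Synt.RelGCIRing R n c F)) = ((n - c : ℕ) : WithBot ℕ∞)) :
    ∃ h : MvPolynomial (Fin n) R,
      IsUnit ((1 : p.ResidueField) ⊗ₜ[R] (Ideal.Quotient.mk (Ideal.span (Set.range F)) h) :
        p.Fiber (Synt.RelGCIRing R n c F)) ∧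
      Synt.IsRelGCI R (n + 1) (c + 1) (relS F h) ∧
      Nonempty (Localization.Away (Ideal.Quotient.mk (Ideal.span (Set.range F)) h) ≃ₐ[R]
        Synt.RelGCIRing R (n + 1) (c + 1) (relS F h)) := by
  obtain ⟨hcn, hdim⟩ := hp
  set S := MvPolynomial (Fin n) R ⧸ Ideal.span (Set.range F) with hS
  set J := goodIdeal R S ((n - c : ℕ) : WithBot ℕ∞) with hJ
  -- the key claim
  have key : ∃ a : R, a ∉ p ∧ ∃ g ∈ J, ∃ π ∈ p.map (algebraMap R S), algebraMap R S a = g + π := by
    by_contra hcon
    have hdisj : Disjoint ((J ⊔ p.map (algebraMap R S) : Ideal S) : Set S)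
        ((p.primeCompl.map (algebraMap R S) : Submonoid S) : Set S) := by
      rw [Set.disjoint_left]
      rintro x hx ⟨a, ha, rfl⟩
      obtain ⟨g, hg, π, hπ, hsum⟩ := Submodule.mem_sup.mp hx
      exact hcon ⟨a, ha, g, hg, π, hπ, hsum.symm⟩
    obtain ⟨q, hqprime, hqle, hqdisj⟩ := Ideal.exists_le_prime_disjoint _ _ hdisj
    have hqp : q.comap (algebraMap R S) = p := by
      apply le_antisymm
      · intro a ha
        by_contra hap
        exact (Set.disjoint_left.mp hqdisj) (Ideal.mem_comap.mp ha) ⟨a, hap, rfl⟩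
      · rw [← Ideal.map_le_iff_le_comap]
        exact le_sup_right.trans hqle
    have hfd : Groth.Agent.H1.FibDim.fibDim R S
        ((⟨q, hqprime⟩ : PrimeSpectrum S).comap (algebraMap R S)) ≤ ((n - c : ℕ) : ℕ) := by
      have h1 : (⟨q, hqprime⟩ : PrimeSpectrum S).comap (algebraMap R S) = ⟨p, inferInstance⟩ :=
        PrimeSpectrum.ext hqp
      rw [h1]
      exact hdim.le
    obtain ⟨h, hhJ, hhq⟩ := exists_mem_goodIdeal_notMem (⟨q, hqprime⟩ : PrimeSpectrum S) (n - c) hfd
    exact hhq (hqle (Ideal.mem_sup_left hhJ))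
  obtain ⟨a, hap, g, hgJ, π, hπ, hsum⟩ := key
  obtain ⟨h, rfl⟩ := Ideal.Quotient.mk_surjective g
  refine ⟨h, ?_, isRelGCI_relS_of_mem_goodIdeal F hcn h hgJ, ⟨awayEquivSnoc F h⟩⟩
  have h1 : ((1 : p.ResidueField) ⊗ₜ[R] (Ideal.Quotient.mk (Ideal.span (Set.range F)) h) :
      p.Fiber S) = (algebraMap R p.ResidueField a) ⊗ₜ[R] (1 : S) := by
    have h2 : Ideal.Quotient.mk (Ideal.span (Set.range F)) h = algebraMap R S a - π := by
      rw [hsum]; ring
    rw [h2, TensorProduct.tmul_sub, one_tmul_eq_zero_of_mem_map p S π hπ, sub_zero,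
      Algebra.algebraMap_eq_smul_one, ← TensorProduct.smul_tmul, Algebra.smul_def, mul_one]
  rw [h1]
  have hu : IsUnit (algebraMap R p.ResidueField a) := by
    rw [isUnit_iff_ne_zero]
    intro h0
    exact hap (Ideal.algebraMap_residueField_eq_zero.mp h0)
  exact hu.map (Algebra.TensorProduct.includeLeftRingHom :
    p.ResidueField →+* p.ResidueField ⊗[R] S)

end Groth.Agent.H8.RGCI
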