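import Mathlib
import Groth.Prelude
import Groth.Agent.Lib.Helper8.RGCI.Main9173
import Groth.Agent.Lib.Helper8.RGCI.Main18938

set_option autoImplicit false
set_option linter.style.haveILetI false

universe u

open TensorProduct Algebra MvPolynomial

namespace Groth.Agent.H8.RGCI

section D1

variable {R : Type u} [CommRing R] {S' X : Type u} [CommRing S'] [CommRing X] [Algebra R S']
  [Algebra R X]

/-- the fibre of a ring isomorphic to `S'_s` is the principal localization of the fibre. -/
theorem ringKrullDim_tensor_of_algEquiv_away (s : S') (ε : Localization.Away s ≃ₐ[R] X)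
    (L : Type u) [CommRing L] [Algebra R L] :
    ringKrullDim (L ⊗[R] X) = ringKrullDim (Localization.Away ((1 : L) ⊗ₜ[R] s)) := by
  letI : Algebra (L ⊗[R] S') (L ⊗[R] Localization.Away s) :=
    (Algebra.TensorProduct.map (AlgHom.id R L)
      (IsScalarTower.toAlgHom R S' (Localization.Away s))).toRingHom.toAlgebra
  haveI := isLocalization_away_tensor (R := R) s (Localization.Away s) L
  have e1 : Localization.Away ((1 : L) ⊗ₜ[R] s) ≃ₐ[L ⊗[R] S'] (L ⊗[R] Localization.Away s) :=
    IsLocalization.algEquiv (Submonoid.powers ((1 : L) ⊗ₜ[R] s)) _ _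
  have e2 : L ⊗[R] Localization.Away s ≃ₐ[L] L ⊗[R] X :=
    Algebra.TensorProduct.congr AlgEquiv.refl ε
  rw [ringKrullDim_eq_of_ringEquiv e1.toRingEquiv, ringKrullDim_eq_of_ringEquiv e2.toRingEquiv]

end D1

section D2

lemma nontrivial_away_of_notMem {T : Type*} [CommRing T] (Q : Ideal T) [Q.IsPrime] (t : T)
    (ht : t ∉ Q) : Nontrivial (Localization.Away t) := by
  rw [← not_subsingleton_iff_nontrivial]
  intro hsub
  have h1 : algebraMap T (Localization.Away t) 1 = 0 := Subsingleton.elim _ _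
  obtain ⟨⟨_, j, rfl⟩, hj⟩ := (IsLocalization.map_eq_zero_iff (Submonoid.powers t) _ _).mp h1
  simp only [mul_one] at hj
  exact ht (Ideal.IsPrime.mem_of_pow_mem inferInstance j (hj ▸ Q.zero_mem))

end D2

section D3

variable {R : Type u} [CommRing R] {S'' : Type u} [CommRing S''] [Algebra R S'']

/-- an element whose image in the fibre over `p` is a unit lies in no prime over `p`. -/
theorem notMem_of_isUnit_tmul (p : Ideal R) [p.IsPrime] (q'' : Ideal S'') [hq'' : q''.IsPrime]
    (hq : q''.comap (algebraMap R S'') = p) (x : S'')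
    (hx : IsUnit ((1 : p.ResidueField) ⊗ₜ[R] x : p.Fiber S'')) : x ∉ q'' := by
  intro hxq
  let y : (PrimeSpectrum.comap (algebraMap R S'') ⁻¹' {(⟨p, inferInstance⟩ : PrimeSpectrum R)}) :=
    ⟨⟨q'', hq''⟩, PrimeSpectrum.ext hq⟩
  let Q'' : PrimeSpectrum (p.Fiber S'') := PrimeSpectrum.preimageEquivFiber R S'' ⟨p, inferInstance⟩ y
  have h1 : (PrimeSpectrum.preimageEquivFiber R S'' ⟨p, inferInstance⟩).symm Q'' = y :=
    (PrimeSpectrum.preimageEquivFiber R S'' ⟨p, inferInstance⟩).symm_apply_apply y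
  have h2 : Q''.asIdeal.comap (Algebra.TensorProduct.includeRight :
      S'' →ₐ[R] p.Fiber S'').toRingHom = q'' := by
    have := congrArg (fun z => z.1.asIdeal) h1
    exact this
  have h3 : ((1 : p.ResidueField) ⊗ₜ[R] x : p.Fiber S'') ∈ Q''.asIdeal := by
    have : x ∈ Q''.asIdeal.comap (Algebra.TensorProduct.includeRight :
      S'' →ₐ[R] p.Fiber S'').toRingHom := by rw [h2]; exact hxq
    exact this
  exact Q''.isPrime.ne_top (Ideal.eq_top_of_isUnit_mem _ h3 hx)

end D3

section D4

variable {R : Type u} [CommRing R] {n : ℕ} (I : Ideal (MvPolynomial (Fin n) R))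

/-- the presentation of `(P/I)_G` when `I` is generated by `ys` after inverting `G`. -/
theorem nonempty_algEquiv_away_relS (ys : List (MvPolynomial (Fin n) R)) (hys : ∀ y ∈ ys, y ∈ I)
    (G : MvPolynomial (Fin n) R) (hG : ∀ x ∈ I, G * x ∈ Ideal.ofList ys) :
    Nonempty (Localization.Away (Ideal.Quotient.mk I G) ≃ₐ[R]
      Synt.RelGCIRing R (n + 1) (ys.length + 1) (relS ys.get G)) := by
  set φ : MvPolynomial (Fin n) R →ₐ[R] (MvPolynomial (Fin n) R ⧸ I) :=
    Ideal.Quotient.mkₐ R I with hφ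
  have hsurj : Function.Surjective φ := Ideal.Quotient.mkₐ_surjective R _
  have hr : ∀ i, φ (ys.get i) = 0 := by
    intro i
    show Ideal.Quotient.mk _ (ys.get i) = 0
    rw [Ideal.Quotient.eq_zero_iff_mem]
    exact hys _ (List.get_mem ys i)
  have hloc : ∀ x, φ x = 0 → ∃ m : ℕ, G ^ m * x ∈ Ideal.span (Set.range ys.get) := by
    intro x hx
    refine ⟨1, ?_⟩
    rw [pow_one, ← ofList_eq_span_range_get]
    exact hG x (Ideal.Quotient.eq_zero_iff_mem.mp hx)
  have hker := ker_phiS φ ys.get hsurj (φ G) G rfl hr hloc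
  exact ⟨((Ideal.quotientKerAlgEquivOfSurjective (phiS_surjective φ hsurj (φ G))).symm).trans
    (Ideal.quotientEquivAlgOfEq R hker)⟩

end D4

end Groth.Agent.H8.RGCI
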