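import Mathlib
import Groth.Prelude
import Groth.Agent.Lib.Helper8.RGCI.D
import Groth.Agent.Lib.Helper8.RGCI.C2

set_option autoImplicit false
set_option linter.style.haveILetI false

universe u

open TensorProduct Algebra MvPolynomial

namespace Groth.Agent.H8.RGCI

open Groth.Agent.H8.GCI

section D5

variable {R : Type u} [CommRing R] {N c : ℕ} (F : Fin c → MvPolynomial (Fin N) R)

/-- Krull's lower bound for the fibre of a presented algebra. -/
theorem le_ringKrullDim_fiber (p : Ideal R) [p.IsPrime]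
    [hnt : Nontrivial (p.Fiber (Synt.RelGCIRing R N c F))] :
    ((N - c : ℕ) : WithBot ℕ∞) ≤ ringKrullDim (p.Fiber (Synt.RelGCIRing R N c F)) := by
  have e := fibQuotEquiv F p
  haveI : Nontrivial (MvPolynomial (Fin N) p.ResidueField ⧸ JJ (Fbar F p)) :=
    e.injective.nontrivial
  have h1 := le_ringKrullDim_quot (Fbar F p)
  rw [ringKrullDim_eq_of_ringEquiv
    (R := p.Fiber (MvPolynomial (Fin N) R ⧸ Ideal.span (Set.range F)))
    (S := MvPolynomial (Fin N) p.ResidueField ⧸ JJ (Fbar F p)) e]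
  exact h1

end D5

section nat

theorem quotDim_eq_nat (k : Type u) [Field k] (T : Type u) [CommRing T] [Algebra k T]
    [Algebra.FiniteType k T] (Q : Ideal T) [Q.IsPrime] : ∃ d : ℕ, quotDim T Q = d := by
  haveI : Algebra.FiniteType k (T ⧸ Q) :=
    Algebra.FiniteType.of_surjective (Ideal.Quotient.mkₐ k Q) Ideal.Quotient.mk_surjective
  exact Groth.Agent.H2.DimFG.exists_ringKrullDim_eq_nat k (T ⧸ Q)

theorem height_eq_nat {T : Type*} [CommRing T] [IsNoetherianRing T] (Q : Ideal T) [Q.IsPrime] :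
    ∃ a : ℕ, Q.height = a :=
  ⟨_, (ENat.natCast_toNat (Ideal.height_ne_top_of_isPrime)).symm⟩

end nat

end Groth.Agent.H8.RGCI
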