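import Mathlib
import Groth.Agent.Lib.Helper8.CI.CILocal2

set_option autoImplicit false
set_option linter.style.haveILetI false

universe u

open TensorProduct

namespace Groth.Agent.H8.RGCI

open Groth.Agent.H8.CILocal

section atPrimeAway

variable {k A A' : Type*} [CommRing k] [CommRing A] [CommRing A'] [Algebra k A] [Algebra k A']
  [Algebra A A'] [IsScalarTower k A A'] (g : A) [IsLocalization.Away g A']
  (q : Ideal A) [q.IsPrime]

include g in
lemma disjoint_powers_of_notMem (hg : g ∉ q) : Disjoint (Submonoid.powers g : Set A) (q : Set A) := by
  rw [Set.disjoint_left]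
  rintro _ ⟨j, rfl⟩ hm
  exact hg (Ideal.IsPrime.mem_of_pow_mem inferInstance j hm)

lemma isPrime_map_away (hg : g ∉ q) : (q.map (algebraMap A A')).IsPrime :=
  IsLocalization.isPrime_of_isPrime_disjoint (Submonoid.powers g) _ q inferInstance
    (disjoint_powers_of_notMem g q hg)

lemma comap_map_away (hg : g ∉ q) : (q.map (algebraMap A A')).comap (algebraMap A A') = q :=
  IsLocalization.under_map_of_isPrime_disjoint (Submonoid.powers g) _ inferInstance
    (disjoint_powers_of_notMem g q hg)

include g in
/-- a prime of a principal localization is the extension of its contraction. -/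
lemma map_comap_away (J : Ideal A') : (J.comap (algebraMap A A')).map (algebraMap A A') = J :=
  IsLocalization.map_under (Submonoid.powers g) A' J

include g in
/-- the local ring at `q` is the local ring of the principal localization at the extended
prime. -/
theorem nonempty_algEquiv_atPrime_away (a : Ideal A') [a.IsPrime]
    (ha : a.comap (algebraMap A A') = q) :
    Nonempty (Localization.AtPrime q ≃ₐ[k] Localization.AtPrime a) := by
  haveI h1 : IsLocalization.AtPrime (Localization.AtPrime a) (a.comap (algebraMap A A')) :=
    IsLocalization.isLocalization_isLocalization_atPrime_isLocalization (Submonoid.powers g)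
      (Localization.AtPrime a) a
  haveI : IsLocalization.AtPrime (Localization.AtPrime a) q := atPrime_congr _ _ ha
  let e : Localization.AtPrime q ≃ₐ[A] Localization.AtPrime a :=
    IsLocalization.algEquiv q.primeCompl (Localization.AtPrime q) (Localization.AtPrime a)
  exact ⟨e.restrictScalars k⟩

end atPrimeAway

section back

variable {R S S' : Type*} [CommRing R] [CommRing S] [CommRing S'] [Algebra R S] [Algebra R S']
  [Algebra S S'] [IsScalarTower R S S'] (g : S) [IsLocalization.Away g S']
  (q : Ideal S) [q.IsPrime]

/-- a principal localization of a principal localization is a principal localization: transport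
of a basic open neighbourhood back to `S`. -/
theorem exists_away_algEquiv_of_away (hg : g ∉ q) (g' : S')
    (hg' : g' ∉ q.map (algebraMap S S')) :
    ∃ g₂ : S, g₂ ∉ q ∧ Nonempty (Localization.Away g₂ ≃ₐ[R] Localization.Away g') := by
  obtain ⟨m, s, hs⟩ := IsLocalization.Away.surj g g'
  have hu : IsUnit (algebraMap S S' g ^ m) := IsLocalization.Away.algebraMap_pow_isUnit g m
  have hassoc : Associated (algebraMap S S' s) g' := by
    obtain ⟨u, hu'⟩ := hu
    refine Associated.symm ⟨u, ?_⟩
    rw [hu', hs]
  haveI : IsLocalization.Away (g * s) (Localization.Away g') :=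
    IsLocalization.Away.mul_of_associated g s g' hassoc
  have hsq : s ∉ q := by
    intro hsq
    apply hg'
    have h1 : algebraMap S S' s ∈ q.map (algebraMap S S') := Ideal.mem_map_of_mem _ hsq
    rw [← hs] at h1
    haveI := isPrime_map_away (A' := S') g q hg
    rcases Ideal.IsPrime.mem_or_mem inferInstance h1 with h2 | h2
    · exact h2
    · exact absurd (Ideal.eq_top_of_isUnit_mem _ h2 hu) (Ideal.IsPrime.ne_top inferInstance)
  refine ⟨g * s, fun h => ?_, ?_⟩
  · rcases Ideal.IsPrime.mem_or_mem inferInstance h with h1 | h1
    · exact hg h1
    · exact hsq h1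
  · let e : Localization.Away (g * s) ≃ₐ[S] Localization.Away g' :=
      IsLocalization.algEquiv (Submonoid.powers (g * s)) _ _
    exact ⟨e.restrictScalars R⟩

end back

end Groth.Agent.H8.RGCI
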