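import Mathlib
import Groth.Agent.Lib.Helper8.RGCI.Loc2
import Groth.Agent.Lib.Helper8.RGCI.Good

set_option autoImplicit false
set_option linter.style.haveILetI false

universe u

open TensorProduct

namespace Groth.Agent.H8.RGCI

section fibre

variable {R S S' : Type u} [CommRing R] [CommRing S] [CommRing S'] [Algebra R S] [Algebra R S']
  [Algebra S S'] [IsScalarTower R S S'] (g : S) [IsLocalization.Away g S']
  (p : Ideal R) [p.IsPrime] (q : Ideal S) [q.IsPrime] (Q : Ideal (p.Fiber S)) [Q.IsPrime]

omit [q.IsPrime] in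
include g in
/-- the fibre local ring is unchanged by a principal localization. -/
theorem exists_fiber_prime_away (hg : g ∉ q)
    (hQ : Q.comap (Algebra.TensorProduct.includeRight.toRingHom) = q) :
    ∃ (Q' : Ideal (p.Fiber S')) (_ : Q'.IsPrime),
      Q'.comap (Algebra.TensorProduct.includeRight.toRingHom) = q.map (algebraMap S S') ∧
      Nonempty (Localization.AtPrime Q ≃ₐ[p.ResidueField] Localization.AtPrime Q') := by
  letI : Algebra (p.Fiber S) (p.Fiber S') :=
    (Algebra.TensorProduct.map (AlgHom.id R p.ResidueField)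
      (IsScalarTower.toAlgHom R S S')).toRingHom.toAlgebra
  haveI : IsScalarTower p.ResidueField (p.Fiber S) (p.Fiber S') :=
    .of_algebraMap_eq <| by
      intro x
      show (x ⊗ₜ[R] (1 : S') : p.ResidueField ⊗[R] S') =
        (Algebra.TensorProduct.map (AlgHom.id R p.ResidueField)
          (IsScalarTower.toAlgHom R S S')) (x ⊗ₜ[R] (1 : S))
      simp
  haveI hloc : IsLocalization.Away ((1 : p.ResidueField) ⊗ₜ[R] g) (p.Fiber S') :=
    isLocalization_away_tensor (R := R) g S' p.ResidueField
  have hgQ : ((1 : p.ResidueField) ⊗ₜ[R] g) ∉ Q := by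
    intro h
    apply hg
    rw [← hQ]
    exact h
  haveI hQ'prime := isPrime_map_away (A' := p.Fiber S') ((1 : p.ResidueField) ⊗ₜ[R] g) Q hgQ
  have hQ'comap := comap_map_away (A' := p.Fiber S') ((1 : p.ResidueField) ⊗ₜ[R] g) Q hgQ
  refine ⟨Q.map (algebraMap (p.Fiber S) (p.Fiber S')), hQ'prime, ?_,
    nonempty_algEquiv_atPrime_away (k := p.ResidueField) ((1 : p.ResidueField) ⊗ₜ[R] g) Q _
      hQ'comap⟩
  have hsq : (algebraMap (p.Fiber S) (p.Fiber S')).comp
      (Algebra.TensorProduct.includeRight : S →ₐ[R] p.Fiber S).toRingHom =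
      (Algebra.TensorProduct.includeRight : S' →ₐ[R] p.Fiber S').toRingHom.comp
        (algebraMap S S') := by
    ext x
    simp [RingHom.algebraMap_toAlgebra]
  have h1 : ((Q.map (algebraMap (p.Fiber S) (p.Fiber S'))).comap
      (Algebra.TensorProduct.includeRight : S' →ₐ[R] p.Fiber S').toRingHom).comap
      (algebraMap S S') = q := by
    rw [Ideal.comap_comap, ← hsq, ← Ideal.comap_comap, hQ'comap]
    exact hQ
  rw [← map_comap_away (A' := S') g ((Q.map (algebraMap (p.Fiber S) (p.Fiber S'))).comap
      (Algebra.TensorProduct.includeRight : S' →ₐ[R] p.Fiber S').toRingHom), h1]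

end fibre

end Groth.Agent.H8.RGCI
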