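import Mathlib
import Groth.Prelude
import Groth.Agent.Lib.Helper8.RGCI.C1
import Groth.Agent.Lib.Helper8.RGCI.D5
import Groth.Agent.Lib.Helper8.RGCI.Loc3
import Groth.Agent.Lib.Helper8.LCI.Fibre5

set_option autoImplicit false
set_option linter.style.haveILetI false

universe u

open TensorProduct Algebra MvPolynomial

namespace Groth.Agent.H8.RGCI

open Groth.Agent.H6 Groth.Agent.H8.LCI Groth.Agent.H8.CILocal Groth.Agent.H8.Synt Groth.Agent.H8.GCI

section step1

variable {A P : Type u} [CommRing A] [CommRing P] [Algebra A P] (I : Ideal P)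
  (p : Ideal A) [p.IsPrime] (Q' : Ideal (p.Fiber (P ⧸ I))) [Q'.IsPrime]

/-- Step 1: generators near the prime with the dimension count. -/
theorem exists_gens_and_dim [Algebra.FiniteType A P] [IsRegularRing (p.Fiber P)]
    [IsDomain (p.Fiber P)] (n : ℕ) (hdimP : ringKrullDim (p.Fiber P) = (n : WithBot ℕ∞))
    (hfg : I.FG) (q' : Ideal (P ⧸ I)) [q'.IsPrime]
    (hQ' : Q'.comap (Algebra.TensorProduct.includeRight : P ⧸ I →ₐ[A] p.Fiber (P ⧸ I)) = q')
    [Module.Flat A (Localization.AtPrime q')]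
    (hci : Synt.IsCIOver p.ResidueField (Localization.AtPrime Q')) :
    ∃ ys : List P, (∀ y ∈ ys, y ∈ I) ∧
      (∃ g : P, Ideal.Quotient.mk I g ∉ q' ∧ ∀ c ∈ I, g * c ∈ Ideal.ofList ys) ∧
      ys.length ≤ n ∧
      (Q'.height : WithBot ℕ∞) + quotDim (p.Fiber (P ⧸ I)) Q' =
        ((n - ys.length : ℕ) : WithBot ℕ∞) := by
  have h𝔮 : FiberDict.under p (Pfib I p Q') = q'.comap (Ideal.Quotient.mk I) := by
    rw [under_Pfib, hQ']
  haveI : Algebra.FiniteType A (P ⧸ I) :=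
    Algebra.FiniteType.of_surjective (Ideal.Quotient.mkₐ A I) (Ideal.Quotient.mkₐ_surjective A I)
  haveI : IsNoetherianRing (p.Fiber (P ⧸ I)) :=
    Algebra.FiniteType.isNoetherianRing p.ResidueField _
  haveI : IsNoetherianRing (p.Fiber P) :=
    Algebra.FiniteType.isNoetherianRing p.ResidueField _
  haveI : IsNoetherianRing (Localization.AtPrime (FiberDict.under p (Pfib I p Q')) ⧸
        pL (A := A) (FiberDict.under p (Pfib I p Q'))) :=
    isNoetherianRing_of_ringEquiv (Localization.AtPrime (Pfib I p Q'))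
      (FiberDict.ringEquiv p (Pfib I p Q'))
  haveI : Module.Flat A (Localization.AtPrime (FiberDict.under p (Pfib I p Q')) ⧸
      KL I (FiberDict.under p (Pfib I p Q'))) := by
    have key : ∀ (r : Ideal P) (hr : r.IsPrime),
        r = q'.comap (Ideal.Quotient.mk I) →
        Module.Flat A (Localization.AtPrime r ⧸ KL I r) := by
      rintro r hr rfl
      exact flat_quot_KL_of_flat_atPrime (A := A) I q'
    exact key _ _ h𝔮
  obtain ⟨ys, hys, ⟨g, hg, Hg⟩, hht⟩ := exists_gens_and_height I p Q' hfg hci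
  have hdim := height_Pfib_add_dim I p Q'
  rw [hdimP] at hdim
  obtain ⟨d, hd⟩ := quotDim_eq_nat p.ResidueField (p.Fiber (P ⧸ I)) Q'
  obtain ⟨a, ha⟩ := height_eq_nat Q'
  obtain ⟨b, hb⟩ := height_eq_nat (Pfib I p Q')
  rw [ha, hb] at hht
  rw [hb, hd] at hdim
  have e1 : a + ys.length = b := by exact_mod_cast hht
  have e2 : b + d = n := by exact_mod_cast hdim
  refine ⟨ys, hys, ⟨g, ?_, Hg⟩, by omega, ?_⟩
  · intro hgq
    apply hg
    rw [h𝔮]
    exact hgq
  · rw [ha, hd]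
    have h0 : a + d = n - ys.length := by omega
    have h' : ((a : ℕ∞) : WithBot ℕ∞) + (d : WithBot ℕ∞) = ((a + d : ℕ) : WithBot ℕ∞) := by
      push_cast
      rfl
    rw [h', h0]

end step1

end Groth.Agent.H8.RGCI

namespace Groth.Agent.H8.RGCI

open Groth.Agent.H6 Groth.Agent.H8.LCI Groth.Agent.H8.CILocal Groth.Agent.H8.Synt Groth.Agent.H8.GCI

section step2

variable {A P : Type u} [CommRing A] [CommRing P] [Algebra A P] (I : Ideal P)
  (p : Ideal A) [p.IsPrime] (Q' : Ideal (p.Fiber (P ⧸ I))) [Q'.IsPrime]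

/-- Step 2: shrink so that the fibre has the right dimension. -/
theorem exists_G_dim_le [Algebra.FiniteType A P] (q' : Ideal (P ⧸ I)) [q'.IsPrime]
    (hQ' : Q'.comap (Algebra.TensorProduct.includeRight : P ⧸ I →ₐ[A] p.Fiber (P ⧸ I)) = q')
    (ys : List P) (g₁ : P) (hg₁ : Ideal.Quotient.mk I g₁ ∉ q')
    (Hg₁ : ∀ c ∈ I, g₁ * c ∈ Ideal.ofList ys) (N : WithBot ℕ∞)
    (hN : (Q'.height : WithBot ℕ∞) + quotDim (p.Fiber (P ⧸ I)) Q' = N) :
    ∃ G : P, Ideal.Quotient.mk I G ∉ q' ∧ (∀ c ∈ I, G * c ∈ Ideal.ofList ys) ∧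
      ringKrullDim (Localization.Away
        ((1 : p.ResidueField) ⊗ₜ[A] (Ideal.Quotient.mk I G) : p.Fiber (P ⧸ I))) ≤ N := by
  haveI : Algebra.FiniteType A (P ⧸ I) :=
    Algebra.FiniteType.of_surjective (Ideal.Quotient.mkₐ A I) (Ideal.Quotient.mkₐ_surjective A I)
  obtain ⟨t, htQ, Ht⟩ := exists_notMem_forall_dim_away_le' p.ResidueField (p.Fiber (P ⧸ I)) Q'
  obtain ⟨r, hr, s, hrs⟩ := Ideal.Fiber.exists_smul_eq_one_tmul p t
  obtain ⟨g₂, rfl⟩ := Ideal.Quotient.mk_surjective s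
  have hunit : IsUnit (algebraMap A (p.Fiber (P ⧸ I)) r) := by
    have h1 : algebraMap A (p.Fiber (P ⧸ I)) r =
        algebraMap p.ResidueField (p.Fiber (P ⧸ I)) (algebraMap A p.ResidueField r) :=
      IsScalarTower.algebraMap_apply A p.ResidueField (p.Fiber (P ⧸ I)) r
    rw [h1]
    apply IsUnit.map
    rw [isUnit_iff_ne_zero]
    intro h0
    exact hr (Ideal.algebraMap_residueField_eq_zero.mp h0)
  have hs : Ideal.Quotient.mk I g₂ ∉ q' := by
    intro hsq
    have h1 : ((1 : p.ResidueField) ⊗ₜ[A] (Ideal.Quotient.mk I g₂) : p.Fiber (P ⧸ I)) ∈ Q' := by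
      rw [← hQ'] at hsq
      exact hsq
    have hsm : r • t = algebraMap A (p.Fiber (P ⧸ I)) r * t := Algebra.smul_def r t
    rw [← hrs, hsm] at h1
    rcases Ideal.IsPrime.mem_or_mem inferInstance h1 with h2 | h2
    · exact (Ideal.IsPrime.ne_top inferInstance) (Ideal.eq_top_of_isUnit_mem _ h2 hunit)
    · exact htQ h2
  refine ⟨g₁ * g₂, ?_, ?_, ?_⟩
  · rw [map_mul]
    intro h
    rcases Ideal.IsPrime.mem_or_mem inferInstance h with h1 | h1
    · exact hg₁ h1
    · exact hs h1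
  · intro c hc
    rw [mul_comm g₁ g₂, mul_assoc]
    exact Ideal.mul_mem_left _ _ (Hg₁ c hc)
  · have key : ((1 : p.ResidueField) ⊗ₜ[A] (Ideal.Quotient.mk I (g₁ * g₂)) : p.Fiber (P ⧸ I)) =
        t * (algebraMap A (p.Fiber (P ⧸ I)) r *
          ((1 : p.ResidueField) ⊗ₜ[A] (Ideal.Quotient.mk I g₁))) := by
      have hsm : r • t = algebraMap A (p.Fiber (P ⧸ I)) r * t := Algebra.smul_def r t
      rw [← mul_assoc, mul_comm t, ← hsm, hrs, Algebra.TensorProduct.tmul_mul_tmul,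
        mul_one, ← map_mul, mul_comm g₂ g₁]
    rw [key, ← hN]
    exact Ht _

end step2

end Groth.Agent.H8.RGCI

namespace Groth.Agent.H8.RGCI

open Groth.Agent.H6 Groth.Agent.H8.LCI Groth.Agent.H8.CILocal Groth.Agent.H8.Synt Groth.Agent.H8.GCI

section step3

variable {A P : Type u} [CommRing A] [CommRing P] [Algebra A P] (I : Ideal P)
  (p : Ideal A) [p.IsPrime] (Q' : Ideal (p.Fiber (P ⧸ I))) [Q'.IsPrime]

/-- Step 3: the local theorem for a quotient `P/I` of a polynomial-like ring. -/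
theorem exists_away_relGCI_of_local_gen [Algebra.FiniteType A P] [IsRegularRing (p.Fiber P)]
    [IsDomain (p.Fiber P)] (n : ℕ) (hdimP : ringKrullDim (p.Fiber P) = (n : WithBot ℕ∞))
    (H2 : ∀ (ys : List P) (_ : ∀ y ∈ ys, y ∈ I) (G : P) (_ : ∀ x ∈ I, G * x ∈ Ideal.ofList ys),
      ∃ F : Fin (ys.length + 1) → MvPolynomial (Fin (n + 1)) A,
        Nonempty (Localization.Away (Ideal.Quotient.mk I G) ≃ₐ[A]
          Synt.RelGCIRing A (n + 1) (ys.length + 1) F))
    (hfg : I.FG) (q' : Ideal (P ⧸ I)) [q'.IsPrime]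
    (hQ' : Q'.comap (Algebra.TensorProduct.includeRight : P ⧸ I →ₐ[A] p.Fiber (P ⧸ I)) = q')
    [Module.Flat A (Localization.AtPrime q')]
    (hci : Synt.IsCIOver p.ResidueField (Localization.AtPrime Q')) :
    ∃ g' : P ⧸ I, g' ∉ q' ∧ ∃ (N C : ℕ) (F : Fin C → MvPolynomial (Fin N) A),
      Synt.IsRelGCI A N C F ∧ Nonempty (Localization.Away g' ≃ₐ[A] Synt.RelGCIRing A N C F) := by
  obtain ⟨ys, hys, ⟨g₁, hg₁, Hg₁⟩, hcn, hN⟩ :=
    exists_gens_and_dim I p Q' n hdimP hfg q' hQ' hci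
  obtain ⟨G, hGq, HG, hdimle⟩ := exists_G_dim_le I p Q' q' hQ' ys g₁ hg₁ Hg₁ _ hN
  obtain ⟨F, ⟨ε⟩⟩ := H2 ys hys G HG
  -- the fibre of the presented algebra
  have hd1 := ringKrullDim_tensor_of_algEquiv_away (Ideal.Quotient.mk I G) ε p.ResidueField
  have hGQ : ((1 : p.ResidueField) ⊗ₜ[A] (Ideal.Quotient.mk I G) : p.Fiber (P ⧸ I)) ∉ Q' := by
    intro h
    apply hGq
    rw [← hQ']
    exact h
  haveI hnt0 := nontrivial_away_of_notMem Q' _ hGQ
  haveI hnt : Nontrivial (p.Fiber (Synt.RelGCIRing A (n + 1) (ys.length + 1) F)) := by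
    by_contra hcon
    rw [not_nontrivial_iff_subsingleton] at hcon
    have h1 := ringKrullDim_eq_bot_of_subsingleton
      (R := p.Fiber (Synt.RelGCIRing A (n + 1) (ys.length + 1) F))
    have h1' : ringKrullDim (p.ResidueField ⊗[A] Synt.RelGCIRing A (n + 1) (ys.length + 1) F) = ⊥ :=
      h1
    rw [hd1] at h1'
    have h2 : (0 : WithBot ℕ∞) ≤ ringKrullDim (Localization.Away
        ((1 : p.ResidueField) ⊗ₜ[A] (Ideal.Quotient.mk I G) : p.Fiber (P ⧸ I))) :=
      ringKrullDim_nonneg_of_nontrivial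
    rw [h1'] at h2
    exact absurd h2 (by simp)
  have hlow := le_ringKrullDim_fiber F p
  have hnc : n + 1 - (ys.length + 1) = n - ys.length := by omega
  have hp : ys.length + 1 ≤ n + 1 ∧
      ringKrullDim (p.Fiber (Synt.RelGCIRing A (n + 1) (ys.length + 1) F)) =
        ((n + 1 - (ys.length + 1) : ℕ) : WithBot ℕ∞) := by
    refine ⟨by omega, le_antisymm ?_ hlow⟩
    rw [hnc]
    have : ringKrullDim (p.ResidueField ⊗[A] Synt.RelGCIRing A (n + 1) (ys.length + 1) F) ≤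
        ((n - ys.length : ℕ) : WithBot ℕ∞) := by
      rw [hd1]
      exact hdimle
    exact this
  obtain ⟨h, hunit, hrel, ⟨ε₂⟩⟩ := main9173 F p hp
  -- transport back to `P/I`
  letI algS : Algebra (P ⧸ I) (Synt.RelGCIRing A (n + 1) (ys.length + 1) F) :=
    ((ε : Localization.Away (Ideal.Quotient.mk I G) →+* _).comp
      (algebraMap (P ⧸ I) (Localization.Away (Ideal.Quotient.mk I G)))).toAlgebra
  haveI : IsScalarTower A (P ⧸ I) (Synt.RelGCIRing A (n + 1) (ys.length + 1) F) :=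
    .of_algebraMap_eq (fun a => by
      show _ = ε (algebraMap (P ⧸ I) (Localization.Away (Ideal.Quotient.mk I G))
        (algebraMap A (P ⧸ I) a))
      rw [← IsScalarTower.algebraMap_apply A (P ⧸ I) (Localization.Away (Ideal.Quotient.mk I G)),
        ε.commutes])
  let ε' : Localization.Away (Ideal.Quotient.mk I G) ≃ₐ[P ⧸ I]
      Synt.RelGCIRing A (n + 1) (ys.length + 1) F :=
    { ε.toRingEquiv with commutes' := fun x => rfl }
  haveI : IsLocalization.Away (Ideal.Quotient.mk I G)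
      (Synt.RelGCIRing A (n + 1) (ys.length + 1) F) :=
    IsLocalization.isLocalization_of_algEquiv (Submonoid.powers (Ideal.Quotient.mk I G)) ε'
  haveI hq''prime := isPrime_map_away
    (A' := Synt.RelGCIRing A (n + 1) (ys.length + 1) F) (Ideal.Quotient.mk I G) q' hGq
  have hq''comap := comap_map_away
    (A' := Synt.RelGCIRing A (n + 1) (ys.length + 1) F) (Ideal.Quotient.mk I G) q' hGq
  have hq'p : q'.comap (algebraMap A (P ⧸ I)) = p := by
    rw [← hQ']
    exact FiberDict.comap_under p Q'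
  have hq''p : (q'.map (algebraMap (P ⧸ I) (Synt.RelGCIRing A (n + 1) (ys.length + 1) F))).comap
      (algebraMap A (Synt.RelGCIRing A (n + 1) (ys.length + 1) F)) = p := by
    rw [IsScalarTower.algebraMap_eq A (P ⧸ I) (Synt.RelGCIRing A (n + 1) (ys.length + 1) F),
      ← Ideal.comap_comap, hq''comap, hq'p]
  have hh := notMem_of_isUnit_tmul p
    (q'.map (algebraMap (P ⧸ I) (Synt.RelGCIRing A (n + 1) (ys.length + 1) F))) hq''p _ hunit
  obtain ⟨g₂, hg₂, ⟨ε₃⟩⟩ := exists_away_algEquiv_of_away (R := A) (Ideal.Quotient.mk I G) q' hGq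
    _ hh
  exact ⟨g₂, hg₂, n + 1 + 1, ys.length + 1 + 1, relS F h, hrel, ⟨ε₃.trans ε₂⟩⟩

end step3

end Groth.Agent.H8.RGCI
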