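import Mathlib
import Groth.Prelude
import Groth.Agent.Lib.Helper8.RGCI.CMain

set_option autoImplicit false
set_option linter.style.haveILetI false

universe u

open TensorProduct Algebra MvPolynomial

namespace Groth.Agent.H8.RGCI

open Groth.Agent.H6 Groth.Agent.H8.LCI Groth.Agent.H8.CILocal Groth.Agent.H8.Synt Groth.Agent.H8.GCI

section E

variable {R S : Type u} [CommRing R] [CommRing S] [Algebra R S]
  (p : Ideal R) [p.IsPrime] (q : Ideal S) [q.IsPrime]
  (Q : Ideal (p.Fiber S)) [Q.IsPrime]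

/-- (3) ⇒ (2), generic form in the polynomial-like ring `P`. -/
theorem exists_relGCI_of_local_gen
    (hQ : Q.comap (Algebra.TensorProduct.includeRight.toRingHom) = q)
    (g : S) (hg : g ∉ q)
    [hflat : Module.Flat R (Localization.AtPrime q)]
    (hci : Synt.IsCIOver p.ResidueField (Localization.AtPrime Q))
    (P : Type u) [CommRing P] [Algebra R P] [Algebra.FiniteType R P] [IsRegularRing (p.Fiber P)]
    [IsDomain (p.Fiber P)] (n : ℕ) (hdimP : ringKrullDim (p.Fiber P) = (n : WithBot ℕ∞))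
    (φ : P →ₐ[R] Localization.Away g) (hφ : Function.Surjective φ)
    (hfg : (RingHom.ker φ.toRingHom).FG)
    (H2 : ∀ (ys : List P) (_ : ∀ y ∈ ys, y ∈ RingHom.ker φ.toRingHom) (G : P)
      (_ : ∀ x ∈ RingHom.ker φ.toRingHom, G * x ∈ Ideal.ofList ys),
      ∃ F : Fin (ys.length + 1) → MvPolynomial (Fin (n + 1)) R,
        Nonempty (Localization.Away (Ideal.Quotient.mk (RingHom.ker φ.toRingHom) G) ≃ₐ[R]
          Synt.RelGCIRing R (n + 1) (ys.length + 1) F)) :
    ∃ g₂ : S, g₂ ∉ q ∧ ∃ (N C : ℕ) (F : Fin C → MvPolynomial (Fin N) R), Synt.IsRelGCI R N C F ∧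
      Nonempty (Localization.Away g₂ ≃ₐ[R] Synt.RelGCIRing R N C F) := by
  set I : Ideal P := RingHom.ker φ.toRingHom with hI
  let e₀ : (P ⧸ I) ≃ₐ[R] Localization.Away g :=
    Ideal.quotientKerAlgEquivOfSurjective hφ
  letI algS : Algebra S (P ⧸ I) :=
    ((e₀.symm : Localization.Away g →+* _).comp (algebraMap S (Localization.Away g))).toAlgebra
  haveI : IsScalarTower R S (P ⧸ I) :=
    .of_algebraMap_eq (fun a => by
      show _ = e₀.symm (algebraMap S (Localization.Away g) (algebraMap R S a))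
      rw [← IsScalarTower.algebraMap_apply R S (Localization.Away g), e₀.symm.commutes])
  let ε' : Localization.Away g ≃ₐ[S] (P ⧸ I) :=
    { e₀.symm.toRingEquiv with commutes' := fun x => rfl }
  haveI : IsLocalization.Away g (P ⧸ I) :=
    IsLocalization.isLocalization_of_algEquiv (Submonoid.powers g) ε'
  haveI hq'prime := isPrime_map_away (A' := P ⧸ I) g q hg
  have hq'comap := comap_map_away (A' := P ⧸ I) g q hg
  obtain ⟨Q', hQ'prime, hQ'comap, ⟨εQ⟩⟩ :=
    exists_fiber_prime_away (S' := P ⧸ I) g p q Q hg hQ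
  -- local flatness
  obtain ⟨εq⟩ := nonempty_algEquiv_atPrime_away (k := R) (A' := P ⧸ I) g q
    (q.map (algebraMap S (P ⧸ I))) hq'comap
  haveI : Module.Flat R (Localization.AtPrime (q.map (algebraMap S (P ⧸ I)))) :=
    Module.Flat.of_linearEquiv εq.toLinearEquiv.symm
  have hci' : Synt.IsCIOver p.ResidueField (Localization.AtPrime Q') :=
    isCIOver_of_algEquiv εQ hci
  obtain ⟨g', hg', N, C, F, hrel, ⟨ε₁⟩⟩ :=
    exists_away_relGCI_of_local_gen (A := R) (P := P) I p Q' n hdimP H2 hfg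
      (q.map (algebraMap S (P ⧸ I))) hQ'comap hci'
  obtain ⟨g₂, hg₂, ⟨ε₂⟩⟩ := exists_away_algEquiv_of_away (R := R) g q hg g' hg'
  exact ⟨g₂, hg₂, N, C, F, hrel, ⟨ε₂.trans ε₁⟩⟩

end E

end Groth.Agent.H8.RGCI

namespace Groth.Agent.H8.RGCI

open Groth.Agent.H6 Groth.Agent.H8.LCI Groth.Agent.H8.CILocal Groth.Agent.H8.Synt Groth.Agent.H8.GCI

section E2

variable {R S : Type u} [CommRing R] [CommRing S] [Algebra R S]
  (p : Ideal R) [p.IsPrime] (q : Ideal S) [q.IsPrime]
  (Q : Ideal (p.Fiber S)) [Q.IsPrime]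

/-- (3) ⇒ (2). -/
theorem exists_relGCI_of_local
    (hQ : Q.comap (Algebra.TensorProduct.includeRight.toRingHom) = q)
    (g : S) (hg : g ∉ q) [hfp : Algebra.FinitePresentation R (Localization.Away g)]
    [hflat : Module.Flat R (Localization.AtPrime q)]
    (hci : Synt.IsCIOver p.ResidueField (Localization.AtPrime Q)) :
    ∃ g₂ : S, g₂ ∉ q ∧ ∃ (N C : ℕ) (F : Fin C → MvPolynomial (Fin N) R), Synt.IsRelGCI R N C F ∧
      Nonempty (Localization.Away g₂ ≃ₐ[R] Synt.RelGCIRing R N C F) := by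
  obtain ⟨n, φ, hφ, hfg⟩ := Algebra.FinitePresentation.out (R := R) (A := Localization.Away g)
  let eT : p.Fiber (MvPolynomial (Fin n) R) ≃ₐ[p.ResidueField]
      MvPolynomial (Fin n) p.ResidueField :=
    MvPolynomial.algebraTensorAlgEquiv R p.ResidueField (σ := Fin n)
  haveI : IsRegularRing (p.Fiber (MvPolynomial (Fin n) R)) :=
    IsRegularRing.of_ringEquiv eT.symm.toRingEquiv
  haveI : IsDomain (p.Fiber (MvPolynomial (Fin n) R)) :=
    eT.toRingEquiv.toMulEquiv.isDomain _
  have hdimP : ringKrullDim (p.Fiber (MvPolynomial (Fin n) R)) = (n : WithBot ℕ∞) := by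
    rw [ringKrullDim_eq_of_ringEquiv
      (R := p.ResidueField ⊗[R] (MvPolynomial (Fin n) R))
      (S := MvPolynomial (Fin n) p.ResidueField) eT.toRingEquiv]
    exact Groth.Agent.H2.DimFG.ringKrullDim_mvPolynomial_fin p.ResidueField n
  exact exists_relGCI_of_local_gen p q Q hQ g hg hci (MvPolynomial (Fin n) R) n hdimP φ hφ hfg
    (fun ys hys G hG => ⟨relS ys.get G, nonempty_algEquiv_away_relS _ ys hys G hG⟩)

end E2

end Groth.Agent.H8.RGCI
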