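import Mathlib
import Groth.Prelude
import Groth.Agent.Lib.Helper8.RGCI.E
import Groth.Agent.Lib.Helper8.Synt.Main9151

set_option autoImplicit false
set_option linter.style.haveILetI false

universe u

open TensorProduct Algebra MvPolynomial

namespace Groth.Agent.H8.RGCI

open Groth.Agent.H6 Groth.Agent.H8.LCI Groth.Agent.H8.CILocal Groth.Agent.H8.Synt Groth.Agent.H8.GCI

variable {R S : Type u} [CommRing R] [CommRing S] [Algebra R S]
  (p : Ideal R) [p.IsPrime] (q : Ideal S) [q.IsPrime]
  (Q : Ideal (p.Fiber S)) [Q.IsPrime]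

/-- (1) ⇒ (3). -/
theorem local_of_isSyntomic
    (hQ : Q.comap (Algebra.TensorProduct.includeRight.toRingHom) = q)
    (g : S) (hg : g ∉ q) (h : Synt.IsSyntomic R (Localization.Away g)) :
    Algebra.FinitePresentation R (Localization.Away g) ∧
      Module.Flat R (Localization.AtPrime q) ∧
      Synt.IsCIOver p.ResidueField (Localization.AtPrime Q) := by
  obtain ⟨hflat, hfp, hfib⟩ := h
  refine ⟨hfp, ?_, ?_⟩
  · haveI hq'prime := isPrime_map_away (A' := Localization.Away g) g q hg
    have hq'comap := comap_map_away (A' := Localization.Away g) g q hg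
    obtain ⟨εq⟩ := nonempty_algEquiv_atPrime_away (k := R) (A' := Localization.Away g) g q
      (q.map (algebraMap S (Localization.Away g))) hq'comap
    haveI : Module.Flat R (Localization.AtPrime (q.map (algebraMap S (Localization.Away g)))) :=
      Module.Flat.trans R (Localization.Away g) _
    exact Module.Flat.of_linearEquiv εq.toLinearEquiv
  · obtain ⟨Q', hQ'prime, hQ'comap, ⟨εQ⟩⟩ :=
      exists_fiber_prime_away (S' := Localization.Away g) g p q Q hg hQ
    exact isCIOver_of_isLCIOver Q' (hfib ⟨p, inferInstance⟩) εQ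

/-- (2) ⇒ (1). -/
theorem isSyntomic_of_relGCI (g : S) (n c : ℕ) (F : Fin c → MvPolynomial (Fin n) R)
    (hF : Synt.IsRelGCI R n c F)
    (e : Localization.Away g ≃ₐ[R] Synt.RelGCIRing R n c F) :
    Synt.IsSyntomic R (Localization.Away g) :=
  isSyntomic_of_algEquiv e.symm (isSyntomic_of_isRelGCI F hF)

theorem main9169 [q.LiesOver p]
    (hQ : Q.comap (Algebra.TensorProduct.includeRight.toRingHom) = q) :
    ((∃ g : S, g ∉ q ∧ Synt.IsSyntomic R (Localization.Away g)) ↔
        ∃ g : S, g ∉ q ∧ ∃ (n c : ℕ) (F : Fin c → MvPolynomial (Fin n) R), Synt.IsRelGCI R n c F ∧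
          Nonempty (Localization.Away g ≃ₐ[R] Synt.RelGCIRing R n c F)) ∧
      ((∃ g : S, g ∉ q ∧ Synt.IsSyntomic R (Localization.Away g)) ↔
        ∃ g : S, g ∉ q ∧ Algebra.FinitePresentation R (Localization.Away g) ∧
          Module.Flat R (Localization.AtPrime q) ∧
          Synt.IsCIOver p.ResidueField (Localization.AtPrime Q)) := by
  have h13 : (∃ g : S, g ∉ q ∧ Synt.IsSyntomic R (Localization.Away g)) →
      ∃ g : S, g ∉ q ∧ Algebra.FinitePresentation R (Localization.Away g) ∧
          Module.Flat R (Localization.AtPrime q) ∧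
          Synt.IsCIOver p.ResidueField (Localization.AtPrime Q) := by
    rintro ⟨g, hg, h⟩
    exact ⟨g, hg, local_of_isSyntomic p q Q hQ g hg h⟩
  have h32 : (∃ g : S, g ∉ q ∧ Algebra.FinitePresentation R (Localization.Away g) ∧
          Module.Flat R (Localization.AtPrime q) ∧
          Synt.IsCIOver p.ResidueField (Localization.AtPrime Q)) →
      ∃ g : S, g ∉ q ∧ ∃ (n c : ℕ) (F : Fin c → MvPolynomial (Fin n) R), Synt.IsRelGCI R n c F ∧
          Nonempty (Localization.Away g ≃ₐ[R] Synt.RelGCIRing R n c F) := by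
    rintro ⟨g, hg, hfp, hflat, hci⟩
    exact exists_relGCI_of_local p q Q hQ g hg hci
  have h21 : (∃ g : S, g ∉ q ∧ ∃ (n c : ℕ) (F : Fin c → MvPolynomial (Fin n) R),
        Synt.IsRelGCI R n c F ∧
          Nonempty (Localization.Away g ≃ₐ[R] Synt.RelGCIRing R n c F)) →
      ∃ g : S, g ∉ q ∧ Synt.IsSyntomic R (Localization.Away g) := by
    rintro ⟨g, hg, n, c, F, hF, ⟨e⟩⟩
    exact ⟨g, hg, isSyntomic_of_relGCI g n c F hF e⟩
  exact ⟨⟨fun h => h32 (h13 h), h21⟩, ⟨h13, fun h => h21 (h32 h)⟩⟩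

end Groth.Agent.H8.RGCI
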