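import Mathlib
import Groth.Prelude
import Groth.Agent.Lib.Helper8.RGCI.Main9169
import Groth.Agent.Lib.Helper8.Synt.Main9287

set_option autoImplicit false
set_option linter.style.haveILetI false

universe u

open TensorProduct Algebra MvPolynomial

namespace Groth.Agent.H8.RGCI

open Groth.Agent.H8.Synt

section

variable {R S : Type u} [CommRing R] [CommRing S] [Algebra R S]

/-- a prime of the fibre over a given prime. -/
theorem exists_fiber_prime (q : Ideal S) [hq : q.IsPrime] :
    ∃ (Q : Ideal ((q.comap (algebraMap R S)).Fiber S)) (_ : Q.IsPrime),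
      Q.comap (Algebra.TensorProduct.includeRight.toRingHom) = q := by
  set p := q.comap (algebraMap R S) with hp
  let y : (PrimeSpectrum.comap (algebraMap R S) ⁻¹' {(⟨p, inferInstance⟩ : PrimeSpectrum R)}) :=
    ⟨⟨q, hq⟩, rfl⟩
  let Q : PrimeSpectrum (p.Fiber S) := PrimeSpectrum.preimageEquivFiber R S ⟨p, inferInstance⟩ y
  have h1 : (PrimeSpectrum.preimageEquivFiber R S ⟨p, inferInstance⟩).symm Q = y :=
    (PrimeSpectrum.preimageEquivFiber R S ⟨p, inferInstance⟩).symm_apply_apply y
  refine ⟨Q.asIdeal, Q.isPrime, ?_⟩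
  have := congrArg (fun z => z.1.asIdeal) h1
  exact this

/-- a syntomic algebra is locally a relative global complete intersection. -/
theorem exists_relGCI_of_isSyntomic (h : Synt.IsSyntomic R S) (q : Ideal S) [q.IsPrime] :
    ∃ g : S, g ∉ q ∧ ∃ (n c : ℕ) (F : Fin c → MvPolynomial (Fin n) R), Synt.IsRelGCI R n c F ∧
      Nonempty (Localization.Away g ≃ₐ[R] Synt.RelGCIRing R n c F) := by
  obtain ⟨Q, hQprime, hQ⟩ := exists_fiber_prime (R := R) q
  haveI : q.LiesOver (q.comap (algebraMap R S)) := ⟨rfl⟩
  have e : S ≃ₐ[S] Localization.Away (1 : S) := IsLocalization.atOne S _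
  have h1 : Synt.IsSyntomic R (Localization.Away (1 : S)) :=
    isSyntomic_of_algEquiv (e.restrictScalars R) h
  exact (main9169 (q.comap (algebraMap R S)) q Q hQ).1.mp
    ⟨1, fun h1q => (Ideal.IsPrime.ne_top inferInstance) ((Ideal.eq_top_iff_one _).mpr h1q), h1⟩

end

section

variable {A B : Type u} [CommRing A] [CommRing B] [Algebra A B]

theorem main2237 [Module.Flat A B] [Algebra.QuasiFinite A B] (hlci : LCI.IsLCI A B)
    (q : Ideal B) [q.IsPrime] :
    ∃ g : B, g ∉ q ∧ ∃ (n : ℕ) (f : Fin n → MvPolynomial (Fin n) A),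
      Nonempty (Localization.Away g ≃ₐ[A]
        (MvPolynomial (Fin n) A ⧸ Ideal.span (Set.range f))) := by
  have hsynt : Synt.IsSyntomic A B := isSyntomic_of_flat_isLCI A B hlci
  obtain ⟨g, hg, n, c, F, hF, ⟨e⟩⟩ := exists_relGCI_of_isSyntomic hsynt q
  refine ⟨g, hg, ?_⟩
  -- the fibre over `p = q ∩ A` is nontrivial of dimension `0`
  set p := q.comap (algebraMap A B) with hp
  haveI : Algebra.QuasiFinite A (Synt.RelGCIRing A n c F) :=
    Algebra.QuasiFinite.of_surjective_algHom e.toAlgHom e.surjective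
  haveI hq'prime := isPrime_map_away (A' := Localization.Away g) g q hg
  have hq'comap := comap_map_away (A' := Localization.Away g) g q hg
  -- the prime of `X` corresponding to `q`
  let q'' : Ideal (Synt.RelGCIRing A n c F) :=
    (q.map (algebraMap B (Localization.Away g))).comap (e.symm : _ →+* Localization.Away g)
  haveI : q''.IsPrime := Ideal.comap_isPrime _ _
  have hq''p : q''.comap (algebraMap A (Synt.RelGCIRing A n c F)) = p := by
    have h1 : (e.symm : Synt.RelGCIRing A n c F →+* Localization.Away g).comp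
        (algebraMap A (Synt.RelGCIRing A n c F)) = algebraMap A (Localization.Away g) := by
      ext a
      exact e.symm.commutes a
    show ((q.map (algebraMap B (Localization.Away g))).comap
      (e.symm : _ →+* Localization.Away g)).comap (algebraMap A (Synt.RelGCIRing A n c F)) = p
    rw [Ideal.comap_comap, h1, IsScalarTower.algebraMap_eq A B (Localization.Away g),
      ← Ideal.comap_comap, hq'comap]
  obtain ⟨Q'', hQ''prime, hQ''⟩ := exists_fiber_prime (R := A) q''
  have hnt : Nontrivial ((q''.comap (algebraMap A (Synt.RelGCIRing A n c F))).Fiber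
      (Synt.RelGCIRing A n c F)) := (⟨Q'', hQ''prime⟩ : PrimeSpectrum _).nontrivial
  obtain ⟨hcn, hdim⟩ := hF ⟨q''.comap (algebraMap A (Synt.RelGCIRing A n c F)), inferInstance⟩ hnt
  have h0 : ringKrullDim ((q''.comap (algebraMap A (Synt.RelGCIRing A n c F))).Fiber
      (Synt.RelGCIRing A n c F)) ≤ 0 := by
    have h1 := Groth.Agent.H1.Chev.ringKrullDim_le_of_quasiFinite
      (q''.comap (algebraMap A (Synt.RelGCIRing A n c F))).ResidueField
      ((q''.comap (algebraMap A (Synt.RelGCIRing A n c F))).ResidueField ⊗[A]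
        (Synt.RelGCIRing A n c F))
    rw [ringKrullDim_eq_zero_of_field] at h1
    exact h1
  rw [hdim] at h0
  have hnc : n - c = 0 := by
    have : ((n - c : ℕ) : WithBot ℕ∞) ≤ ((0 : ℕ) : WithBot ℕ∞) := by exact_mod_cast h0
    have h2 : n - c ≤ 0 := by exact_mod_cast this
    omega
  have hcn' : c = n := by omega
  subst hcn'
  exact ⟨c, F, ⟨e⟩⟩

end

end Groth.Agent.H8.RGCI
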