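import Mathlib
import Groth.Prelude
import Groth.Agent.Lib.Helper8.RGCI.Main9173

set_option autoImplicit false
set_option linter.style.haveILetI false

universe u

open TensorProduct Algebra MvPolynomial

namespace Groth.Agent.H8.RGCI

open Groth.Agent.H1 Groth.Agent.H8.LCI Groth.Agent.H8.GCI

variable {R : Type u} [CommRing R] {n c : ℕ} (F : Fin c → MvPolynomial (Fin n) R)

/-- the reduction of the equations modulo `I`. -/
noncomputable def Fmod (I : Ideal R) : Fin c → MvPolynomial (Fin n) (R ⧸ I) :=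
  fun i => MvPolynomial.map (Ideal.Quotient.mk I) (F i)

lemma FL_Fmod (I : Ideal R) (L : Type u) [CommRing L] [Algebra R L] [Algebra (R ⧸ I) L]
    [IsScalarTower R (R ⧸ I) L] : FL (Fmod F I) L = FL F L := by
  funext i
  simp only [FL, Fmod]
  rw [MvPolynomial.map_map]
  have : (algebraMap (R ⧸ I) L).comp (Ideal.Quotient.mk I) = algebraMap R L :=
    (IsScalarTower.algebraMap_eq R (R ⧸ I) L).symm
  rw [this]

/-- general form: dimension of `L ⊗ R[x]/(F)`. -/
theorem ringKrullDim_tensor_relGCIRing (L : Type u) [CommRing L] [Algebra R L] :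
    ringKrullDim (L ⊗[R] Synt.RelGCIRing R n c F) =
      ringKrullDim (MvPolynomial (Fin n) L ⧸ Ideal.span (Set.range (FL F L))) :=
  ringKrullDim_eq_of_ringEquiv
      (R := L ⊗[R] (MvPolynomial (Fin n) R ⧸ Ideal.span (Set.range F)))
      (S := MvPolynomial (Fin n) L ⧸ Ideal.span (Set.range (FL F L)))
      (tensorQuotEquiv F L).toRingEquiv

/-- the fibre of the reduction mod `I` over a prime `pb` has the dimension of the fibre of `S` over
the preimage of `pb`. -/
theorem ringKrullDim_fiber_Fmod (I : Ideal R) (pb : Ideal (R ⧸ I)) [pb.IsPrime] :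
    ringKrullDim (pb.Fiber (Synt.RelGCIRing (R ⧸ I) n c (Fmod F I))) =
      Groth.Agent.H1.FibDim.fibDim R (Synt.RelGCIRing R n c F)
        ⟨pb.comap (Ideal.Quotient.mk I), Ideal.IsPrime.comap _⟩ := by
  have hker : RingHom.ker (algebraMap R pb.ResidueField) = pb.comap (Ideal.Quotient.mk I) := by
    rw [IsScalarTower.algebraMap_eq R (R ⧸ I) pb.ResidueField, ← RingHom.comap_ker,
      Ideal.ker_algebraMap_residueField]
    rfl
  rw [← Groth.Agent.H1.FibDim.ringKrullDim_tensor_eq_fibDim R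
    (Synt.RelGCIRing R n c F) pb.ResidueField
    ⟨pb.comap (Ideal.Quotient.mk I), Ideal.IsPrime.comap _⟩ hker]
  rw [ringKrullDim_tensor_relGCIRing, FL_Fmod F I, ← ringKrullDim_tensor_relGCIRing]

/-- primes of `S` over `V(I)` have fibre dimension `n - c`. -/
theorem fibDim_of_isRelGCI_quot (I : Ideal R)
    (hI : Synt.IsRelGCI (R ⧸ I) n c (Fmod F I))
    (q : Ideal (Synt.RelGCIRing R n c F)) [hq : q.IsPrime]
    (hIq : I ≤ q.comap (algebraMap R (Synt.RelGCIRing R n c F))) :
    c ≤ n ∧ Groth.Agent.H1.FibDim.fibDim R (Synt.RelGCIRing R n c F)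
      ((⟨q, hq⟩ : PrimeSpectrum _).comap (algebraMap R _)) = ((n - c : ℕ) : WithBot ℕ∞) := by
  set p : Ideal R := q.comap (algebraMap R (Synt.RelGCIRing R n c F)) with hp
  haveI : p.IsPrime := Ideal.IsPrime.comap _
  have hpbprime : (p.map (Ideal.Quotient.mk I)).IsPrime :=
    Ideal.map_isPrime_of_surjective Ideal.Quotient.mk_surjective (by rw [Ideal.mk_ker]; exact hIq)
  have hcomap : (p.map (Ideal.Quotient.mk I)).comap (Ideal.Quotient.mk I) = p :=
    Ideal.comap_map_mk hIq
  have d1 := ringKrullDim_fiber_Fmod F I (p.map (Ideal.Quotient.mk I))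
  have h4 : (⟨(p.map (Ideal.Quotient.mk I)).comap (Ideal.Quotient.mk I), Ideal.IsPrime.comap _⟩ :
      PrimeSpectrum R) = (⟨q, hq⟩ : PrimeSpectrum _).comap (algebraMap R _) :=
    PrimeSpectrum.ext hcomap
  rw [h4] at d1
  have hnt0 : Nontrivial (p.Fiber (Synt.RelGCIRing R n c F)) := by
    have x : PrimeSpectrum (p.Fiber (Synt.RelGCIRing R n c F)) :=
      PrimeSpectrum.preimageEquivFiber R (Synt.RelGCIRing R n c F) ⟨p, inferInstance⟩
        ⟨⟨q, hq⟩, rfl⟩
    exact x.nontrivial
  have hnt1 : Nontrivial ((p.map (Ideal.Quotient.mk I)).Fiber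
      (Synt.RelGCIRing (R ⧸ I) n c (Fmod F I))) := by
    by_contra hcon
    rw [not_nontrivial_iff_subsingleton] at hcon
    have h1 := ringKrullDim_eq_bot_of_subsingleton
      (R := (p.map (Ideal.Quotient.mk I)).Fiber (Synt.RelGCIRing (R ⧸ I) n c (Fmod F I)))
    rw [d1] at h1
    have h2 : (0 : WithBot ℕ∞) ≤ ringKrullDim (p.Fiber (Synt.RelGCIRing R n c F)) :=
      ringKrullDim_nonneg_of_nontrivial
    have h3 : Groth.Agent.H1.FibDim.fibDim R (Synt.RelGCIRing R n c F)
        ((⟨q, hq⟩ : PrimeSpectrum _).comap (algebraMap R _)) =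
        ringKrullDim (p.Fiber (Synt.RelGCIRing R n c F)) := rfl
    rw [h3] at h1
    rw [h1] at h2
    exact absurd h2 (by simp)
  obtain ⟨hcn, hdim⟩ := hI ⟨p.map (Ideal.Quotient.mk I), hpbprime⟩ hnt1
  refine ⟨hcn, ?_⟩
  rw [← d1]
  exact hdim

theorem main9172 (I : Ideal R)
    (hI : Synt.IsRelGCI (R ⧸ I) n c (fun i => MvPolynomial.map (Ideal.Quotient.mk I) (F i))) :
    ∃ h : MvPolynomial (Fin n) R,
      Ideal.Quotient.mk (I.map (algebraMap R (Synt.RelGCIRing R n c F)))
        (Ideal.Quotient.mk (Ideal.span (Set.range F)) h) = 1 ∧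
      Synt.IsRelGCI R (n + 1) (c + 1) (relS F h) ∧
      Nonempty (Localization.Away (Ideal.Quotient.mk (Ideal.span (Set.range F)) h) ≃ₐ[R]
        Synt.RelGCIRing R (n + 1) (c + 1) (relS F h)) := by
  set S := Synt.RelGCIRing R n c F with hS
  have hprime : ∀ (q : Ideal S) (hq : q.IsPrime), I.map (algebraMap R S) ≤ q →
      c ≤ n ∧ Groth.Agent.H1.FibDim.fibDim R S
      ((⟨q, hq⟩ : PrimeSpectrum _).comap (algebraMap R _)) = ((n - c : ℕ) : WithBot ℕ∞) := by
    intro q hq hle
    exact fibDim_of_isRelGCI_quot F I hI q (Ideal.map_le_iff_le_comap.mp hle)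
  by_cases hcn : c ≤ n
  · set J := goodIdeal R S ((n - c : ℕ) : WithBot ℕ∞) with hJ
    have htop : J ⊔ I.map (algebraMap R S) = ⊤ := by
      by_contra hne
      obtain ⟨q, hqmax, hqle⟩ := Ideal.exists_le_maximal _ hne
      have hq : q.IsPrime := hqmax.isPrime
      obtain ⟨-, hfd⟩ := hprime q hq (le_sup_right.trans hqle)
      obtain ⟨h, hhJ, hhq⟩ := exists_mem_goodIdeal_notMem (⟨q, hq⟩ : PrimeSpectrum S) (n - c)
        hfd.le
      exact hhq (hqle (Ideal.mem_sup_left hhJ))
    obtain ⟨g, hgJ, π, hπ, hsum⟩ := Submodule.mem_sup.mp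
      (show (1 : S) ∈ J ⊔ I.map (algebraMap R S) by rw [htop]; trivial)
    obtain ⟨h, rfl⟩ := Ideal.Quotient.mk_surjective g
    refine ⟨h, ?_, isRelGCI_relS_of_mem_goodIdeal F hcn h hgJ, ⟨awayEquivSnoc F h⟩⟩
    rw [← map_one (Ideal.Quotient.mk (I.map (algebraMap R S))), Ideal.Quotient.eq]
    have : Ideal.Quotient.mk (Ideal.span (Set.range F)) h - 1 = -π := by
      rw [← hsum]; ring
    rw [this]
    exact (Ideal.neg_mem_iff _).mpr hπ
  · have htop : I.map (algebraMap R S) = ⊤ := by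
      by_contra hne
      obtain ⟨q, hqmax, hqle⟩ := Ideal.exists_le_maximal _ hne
      exact hcn (hprime q hqmax.isPrime hqle).1
    refine ⟨0, ?_, ?_, ⟨awayEquivSnoc F 0⟩⟩
    · haveI : Subsingleton (S ⧸ I.map (algebraMap R S)) :=
        Ideal.Quotient.subsingleton_iff.mpr htop
      exact Subsingleton.elim _ _
    · intro p hnt
      exfalso
      have hss : Subsingleton (Localization.Away (Ideal.Quotient.mk (Ideal.span (Set.range F))
          (0 : MvPolynomial (Fin n) R))) := by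
        rw [map_zero]
        exact IsLocalization.subsingleton (M := Submonoid.powers (0 : S))
          ⟨1, by simp⟩
      haveI : Subsingleton (Synt.RelGCIRing R (n + 1) (c + 1) (relS F 0)) :=
        (awayEquivSnoc F 0).symm.injective.subsingleton
      let ι : Synt.RelGCIRing R (n + 1) (c + 1) (relS F 0) →+*
          p.asIdeal.Fiber (Synt.RelGCIRing R (n + 1) (c + 1) (relS F 0)) :=
        (Algebra.TensorProduct.includeRight : Synt.RelGCIRing R (n + 1) (c + 1) (relS F 0) →ₐ[R]
          p.asIdeal.Fiber (Synt.RelGCIRing R (n + 1) (c + 1) (relS F 0))).toRingHom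
      have h01 : (1 : p.asIdeal.Fiber (Synt.RelGCIRing R (n + 1) (c + 1) (relS F 0))) = 0 := by
        rw [← map_one ι, Subsingleton.elim (1 : Synt.RelGCIRing R (n + 1) (c + 1) (relS F 0)) 0,
          map_zero]
      obtain ⟨x, y, hxy⟩ := hnt.exists_pair_ne
      apply hxy
      have hx : ∀ z : p.asIdeal.Fiber (Synt.RelGCIRing R (n + 1) (c + 1) (relS F 0)), z = 0 :=
        fun z => by
          calc z = z * 1 := (mul_one z).symm
            _ = z * 0 := by rw [h01]
            _ = 0 := mul_zero z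
      rw [hx x, hx y]

end Groth.Agent.H8.RGCI
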