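import Mathlib
import Groth.Prelude
import Groth.Agent.Lib.Helper8.RGCI.Main2237
import Groth.Agent.Lib.Helper8.RGCI.Main9172

set_option autoImplicit false
set_option linter.style.haveILetI false

universe u

open TensorProduct Algebra MvPolynomial

namespace Groth.Agent.H8.RGCI

section Q1

variable {R S : Type u} [CommRing R] [CommRing S] [Algebra R S] (I : Ideal R)

/-- inverting an element congruent to `1` modulo `IS` does not change the quotient by `I`. -/
theorem nonempty_algEquiv_away_quot (a : S)
    (ha : Ideal.Quotient.mk (I.map (algebraMap R S)) a = 1) :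
    Nonempty ((Localization.Away a ⧸ I.map (algebraMap R (Localization.Away a))) ≃ₐ[R]
      (S ⧸ I.map (algebraMap R S))) := by
  have hu : IsUnit ((Ideal.Quotient.mkₐ R (I.map (algebraMap R S))) a) := by
    show IsUnit (Ideal.Quotient.mk (I.map (algebraMap R S)) a)
    rw [ha]
    exact isUnit_one
  let ψ : Localization.Away a →ₐ[R] (S ⧸ I.map (algebraMap R S)) :=
    IsLocalization.Away.liftAlgHom (S := Localization.Away a) a
      (f := Ideal.Quotient.mkₐ R (I.map (algebraMap R S))) hu
  have hψ : ∀ s : S, ψ (algebraMap S (Localization.Away a) s) =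
      Ideal.Quotient.mk (I.map (algebraMap R S)) s := fun s =>
    IsLocalization.Away.lift_eq a hu s
  have hsurj : Function.Surjective ψ := by
    intro y
    obtain ⟨s, rfl⟩ := Ideal.Quotient.mk_surjective y
    exact ⟨algebraMap S _ s, hψ s⟩
  have hker : RingHom.ker ψ.toRingHom = I.map (algebraMap R (Localization.Away a)) := by
    apply le_antisymm
    · intro x hx
      rw [RingHom.mem_ker] at hx
      obtain ⟨k, s, hs⟩ := IsLocalization.Away.surj a x
      have h1 : ψ (algebraMap S (Localization.Away a) s) = 0 := by
        rw [← hs, map_mul]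
        show ψ x * _ = 0
        have : ψ.toRingHom x = ψ x := rfl
        rw [← this, hx, zero_mul]
      rw [hψ, Ideal.Quotient.eq_zero_iff_mem] at h1
      have h2 : algebraMap S (Localization.Away a) s ∈
          I.map (algebraMap R (Localization.Away a)) := by
        rw [IsScalarTower.algebraMap_eq R S (Localization.Away a), ← Ideal.map_map]
        exact Ideal.mem_map_of_mem _ h1
      have hunit : IsUnit (algebraMap S (Localization.Away a) a ^ k) :=
        IsLocalization.Away.algebraMap_pow_isUnit a k
      obtain ⟨v, hv⟩ := hunit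
      have h3 : x = algebraMap S (Localization.Away a) s * ↑v⁻¹ := by
        rw [← hs, ← hv, mul_assoc, Units.mul_inv, mul_one]
      rw [h3]
      exact Ideal.mul_mem_right _ _ h2
    · rw [Ideal.map_le_iff_le_comap]
      intro r hr
      rw [Ideal.mem_comap, RingHom.mem_ker]
      show ψ (algebraMap R (Localization.Away a) r) = 0
      rw [ψ.commutes]
      show Ideal.Quotient.mk _ (algebraMap R S r) = 0
      rw [Ideal.Quotient.eq_zero_iff_mem]
      exact Ideal.mem_map_of_mem _ hr
  exact ⟨(Ideal.quotientEquivAlgOfEq R hker.symm).trans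
    (Ideal.quotientKerAlgEquivOfSurjective hsurj)⟩

end Q1

section Q2

variable {R X Y : Type u} [CommRing R] [CommRing X] [CommRing Y] [Algebra R X] [Algebra R Y]
  (I : Ideal R)

/-- quotients by `I` of isomorphic algebras. -/
noncomputable def quotMapAlgEquiv (e : Y ≃ₐ[R] X) :
    (Y ⧸ I.map (algebraMap R Y)) ≃ₐ[R] (X ⧸ I.map (algebraMap R X)) :=
  Ideal.quotientEquivAlg _ _ e (by
    have h1 : (I.map (algebraMap R Y)).map (e : Y →+* X) = I.map (algebraMap R X) := by
      rw [Ideal.map_map]
      congr 1
      ext r
      exact e.commutes r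
    exact h1.symm)

end Q2

end Groth.Agent.H8.RGCI
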