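import Mathlib
import Groth.Prelude
import Groth.Agent.Lib.Helper8.RGCI.Q9150

set_option autoImplicit false
set_option linter.style.haveILetI false

universe u

open TensorProduct Algebra MvPolynomial

namespace Groth.Agent.H8.RGCI

section Q3

variable {R : Type u} [CommRing R] {n c : ℕ} (F : Fin c → MvPolynomial (Fin n) R) (I : Ideal R)

/-- `S/IS ≃ (R/I)[x]/(F mod I)`. -/
theorem nonempty_algEquiv_quot_Fmod :
    Nonempty ((Synt.RelGCIRing R n c F ⧸ I.map (algebraMap R (Synt.RelGCIRing R n c F))) ≃ₐ[R ⧸ I]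
      Synt.RelGCIRing (R ⧸ I) n c (Fmod F I)) := by
  have e1 := Algebra.TensorProduct.quotIdealMapEquivQuotTensor (Synt.RelGCIRing R n c F) I
  have e2 := tensorQuotEquiv F (R ⧸ I)
  exact ⟨e1.trans e2⟩

end Q3

section main

variable (R : Type u) [CommRing R] (I : Ideal R) (Sb : Type u) [CommRing Sb]
    [Algebra R Sb] [Algebra (R ⧸ I) Sb] [IsScalarTower R (R ⧸ I) Sb]

/-- the local statement. -/
theorem exists_away_algEquiv_quot_relGCI (h : Synt.IsSyntomic (R ⧸ I) Sb) (q : Ideal Sb)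
    [q.IsPrime] :
    ∃ g : Sb, g ∉ q ∧ ∃ (n c : ℕ) (F : Fin c → MvPolynomial (Fin n) R), Synt.IsRelGCI R n c F ∧
        Nonempty (Localization.Away g ≃ₐ[R]
          (Synt.RelGCIRing R n c F ⧸ I.map (algebraMap R (Synt.RelGCIRing R n c F)))) := by
  obtain ⟨g, hg, n, c, Fb, hFb, ⟨ε⟩⟩ := exists_relGCI_of_isSyntomic h q
  refine ⟨g, hg, ?_⟩
  have hlift : ∀ i, ∃ f : MvPolynomial (Fin n) R, MvPolynomial.map (Ideal.Quotient.mk I) f = Fb i :=
    fun i => MvPolynomial.map_surjective _ Ideal.Quotient.mk_surjective (Fb i)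
  choose F hF using hlift
  obtain rfl : Fb = fun i => MvPolynomial.map (Ideal.Quotient.mk I) (F i) :=
    funext (fun i => (hF i).symm)
  obtain ⟨h', hh'1, hrel, ⟨ε₂⟩⟩ := main9172 F I hFb
  refine ⟨n + 1, c + 1, relS F h', hrel, ?_⟩
  obtain ⟨e1⟩ := nonempty_algEquiv_away_quot I
    (Ideal.Quotient.mk (Ideal.span (Set.range F)) h') hh'1
  obtain ⟨e3⟩ := nonempty_algEquiv_quot_Fmod F I
  have e2 := quotMapAlgEquiv I ε₂
  exact ⟨((ε.restrictScalars R).trans (e3.restrictScalars R).symm).trans (e1.symm.trans e2)⟩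

theorem main9150 (h : Synt.IsSyntomic (R ⧸ I) Sb) :
    ∃ s : Finset Sb, Ideal.span (s : Set Sb) = ⊤ ∧ ∀ g ∈ s,
      ∃ (n c : ℕ) (F : Fin c → MvPolynomial (Fin n) R), Synt.IsRelGCI R n c F ∧
        Nonempty (Localization.Away g ≃ₐ[R]
          (Synt.RelGCIRing R n c F ⧸ I.map (algebraMap R (Synt.RelGCIRing R n c F)))) := by
  set T : Set Sb := {g | ∃ (n c : ℕ) (F : Fin c → MvPolynomial (Fin n) R), Synt.IsRelGCI R n c F ∧
        Nonempty (Localization.Away g ≃ₐ[R]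
          (Synt.RelGCIRing R n c F ⧸ I.map (algebraMap R (Synt.RelGCIRing R n c F))))} with hT
  have htop : Ideal.span T = ⊤ := by
    by_contra hne
    obtain ⟨m, hm, hle⟩ := Ideal.exists_le_maximal _ hne
    haveI := hm.isPrime
    obtain ⟨g, hg, hgT⟩ := exists_away_algEquiv_quot_relGCI R I Sb h m
    exact hg (hle (Ideal.subset_span hgT))
  obtain ⟨s, hs, hspan⟩ := (Ideal.span_eq_top_iff_finite T).mp htop
  exact ⟨s, hspan, fun g hg => hs hg⟩

end main

end Groth.Agent.H8.RGCI
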