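import Mathlib
import Groth.Prelude
import Groth.Agent.Lib.Helper8.RGCI.Main2237
import Groth.Agent.Lib.Helper8.RGCI.Main9147
import Groth.Agent.Lib.Helper8.RGCI.Main18938

set_option autoImplicit false
set_option linter.style.haveILetI false

universe u

open TensorProduct Algebra MvPolynomial

namespace Groth.Agent.H8.RGCI

open Groth.Agent.H6 Groth.Agent.H8.LCI Groth.Agent.H8.CILocal Groth.Agent.H8.Synt Groth.Agent.H8.GCI

section SL

variable {R M : Type*} [CommRing R] [AddCommGroup M] [Module R M]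

/-- over a semilocal ring a finite module that is generated by `n` elements modulo every maximal
ideal is generated by `n` elements. -/
theorem exists_generators_of_semilocal [Module.Finite R M] [Finite (MaximalSpectrum R)] (n : ℕ)
    (H : ∀ 𝔪 : MaximalSpectrum R, ∃ x : Fin n → M,
      Submodule.span R (Set.range x) ⊔ 𝔪.asIdeal • (⊤ : Submodule R M) = ⊤) :
    ∃ z : Fin n → M, Submodule.span R (Set.range z) = ⊤ := by
  classical
  haveI := Fintype.ofFinite (MaximalSpectrum R)
  choose x hx using H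
  have hcop : Pairwise (Function.onFun IsCoprime fun 𝔪 : MaximalSpectrum R => 𝔪.asIdeal) :=
    fun a b hab => Ideal.isCoprime_of_isMaximal (MaximalSpectrum.ext_iff.ne.mp hab)
  have he : ∀ 𝔪 : MaximalSpectrum R, ∃ e : R, ∀ 𝔫 : MaximalSpectrum R,
      e - (if 𝔫 = 𝔪 then 1 else 0) ∈ 𝔫.asIdeal :=
    fun 𝔪 => Ideal.exists_forall_sub_mem_ideal hcop _
  choose e he using he
  let z : Fin n → M := fun k => ∑ 𝔪, e 𝔪 • x 𝔪 k
  set N : Submodule R M := Submodule.span R (Set.range z) with hN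
  refine ⟨z, ?_⟩
  have hz : ∀ (𝔫 : MaximalSpectrum R) (k : Fin n),
      x 𝔫 k - z k ∈ (𝔫.asIdeal • ⊤ : Submodule R M) := by
    intro 𝔫 k
    have h1 : x 𝔫 k - z k =
        (-(e 𝔫 - 1)) • x 𝔫 k - ∑ 𝔪 ∈ Finset.univ.erase 𝔫, e 𝔪 • x 𝔪 k := by
      show x 𝔫 k - ∑ 𝔪, e 𝔪 • x 𝔪 k = _
      rw [← Finset.add_sum_erase _ _ (Finset.mem_univ 𝔫), neg_smul, sub_smul, one_smul]
      abel
    rw [h1]
    apply Submodule.sub_mem
    · apply Submodule.smul_mem_smul _ Submodule.mem_top
      have h2 := he 𝔫 𝔫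
      rw [if_pos rfl] at h2
      exact neg_mem h2
    · apply Submodule.sum_mem
      intro 𝔪 h𝔪
      apply Submodule.smul_mem_smul _ Submodule.mem_top
      have h2 := he 𝔪 𝔫
      rw [if_neg (fun h => (Finset.ne_of_mem_erase h𝔪) h.symm), sub_zero] at h2
      exact h2
  have hN𝔫 : ∀ 𝔫 : MaximalSpectrum R, N ⊔ 𝔫.asIdeal • (⊤ : Submodule R M) = ⊤ := by
    intro 𝔫
    apply _root_.eq_top_iff.mpr
    have h0 : Submodule.span R (Set.range (x 𝔫)) ≤ N ⊔ 𝔫.asIdeal • (⊤ : Submodule R M) := by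
      rw [Submodule.span_le]
      rintro _ ⟨k, rfl⟩
      have h3 : x 𝔫 k = z k + (x 𝔫 k - z k) := by abel
      rw [h3]
      exact Submodule.add_mem_sup (Submodule.subset_span ⟨k, rfl⟩) (hz 𝔫 k)
    calc (⊤ : Submodule R M) = _ := (hx 𝔫).symm
      _ ≤ _ := sup_le h0 le_sup_right
  have hprod : ∀ s : Finset (MaximalSpectrum R),
      N ⊔ (∏ 𝔪 ∈ s, 𝔪.asIdeal) • (⊤ : Submodule R M) = ⊤ := by
    intro s
    induction s using Finset.induction_on with
    | empty =>
      rw [Finset.prod_empty, Ideal.one_eq_top, Submodule.top_smul, sup_top_eq]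
    | insert a s ha ih =>
      rw [Finset.prod_insert ha, _root_.eq_top_iff]
      calc (⊤ : Submodule R M) = N ⊔ a.asIdeal • (⊤ : Submodule R M) := (hN𝔫 a).symm
        _ = N ⊔ a.asIdeal • (N ⊔ (∏ 𝔪 ∈ s, 𝔪.asIdeal) • (⊤ : Submodule R M)) := by rw [ih]
        _ ≤ N ⊔ (a.asIdeal * ∏ 𝔪 ∈ s, 𝔪.asIdeal) • (⊤ : Submodule R M) := by
          rw [Submodule.smul_sup, Submodule.mul_smul]
          exact sup_le le_sup_left
            (sup_le (le_sup_of_le_left Submodule.smul_le_right) le_sup_right)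
  have hJ : (∏ 𝔪 ∈ (Finset.univ : Finset (MaximalSpectrum R)), 𝔪.asIdeal) ≤
      Ideal.jacobson ⊥ := by
    apply le_sInf
    rintro J ⟨-, hJ⟩
    exact Ideal.prod_le_inf.trans
      (Finset.inf_le (Finset.mem_univ (⟨J, hJ⟩ : MaximalSpectrum R)))
  apply _root_.eq_top_iff.mpr
  apply Submodule.le_of_le_smul_of_le_jacobson_bot Module.Finite.fg_top hJ
  rw [hprod]

end SL

section FinMax

/-- a finite algebra over a local ring is semilocal. -/
theorem finite_maximalSpectrum_of_finite (A B : Type*) [CommRing A] [IsLocalRing A] [CommRing B]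
    [Algebra A B] [Module.Finite A B] : Finite (MaximalSpectrum B) := by
  have hfin := Algebra.QuasiFinite.finite_comap_preimage_singleton (R := A) (S := B)
    (IsLocalRing.closedPoint A)
  haveI := hfin.to_subtype
  let f : MaximalSpectrum B →
      (PrimeSpectrum.comap (algebraMap A B) ⁻¹' {IsLocalRing.closedPoint A}) := fun 𝔫 =>
    ⟨⟨𝔫.asIdeal, 𝔫.isMaximal.isPrime⟩, by
      haveI := 𝔫.isMaximal
      apply PrimeSpectrum.ext
      show 𝔫.asIdeal.comap (algebraMap A B) = IsLocalRing.maximalIdeal A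
      exact IsLocalRing.eq_maximalIdeal
        (Ideal.isMaximal_comap_of_isIntegral_of_isMaximal 𝔫.asIdeal)⟩
  apply Finite.of_injective f
  intro a b hab
  ext1
  exact congrArg (fun t => t.1.asIdeal) hab

end FinMax

section Cot

variable {P : Type*} [CommRing P] (I : Ideal P)

theorem exists_gens_mod_sq (hfg : I.FG) [Finite (MaximalSpectrum (P ⧸ I))] (n : ℕ)
    (H : ∀ q' : Ideal (P ⧸ I), q'.IsMaximal → ∃ ys : Fin n → P, (∀ k, ys k ∈ I) ∧
      ∃ g : P, Ideal.Quotient.mk I g ∉ q' ∧ ∀ c ∈ I, g * c ∈ Ideal.span (Set.range ys)) :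
    ∃ f : Fin n → P, (∀ k, f k ∈ I) ∧ I ≤ Ideal.span (Set.range f) ⊔ I ^ 2 := by
  haveI : Module.Finite P I := Module.Finite.iff_fg.mpr hfg
  haveI : Module.Finite P I.Cotangent :=
    Module.Finite.of_surjective I.toCotangent I.toCotangent_surjective
  haveI : Module.Finite (P ⧸ I) I.Cotangent :=
    Module.Finite.of_restrictScalars_finite P (P ⧸ I) I.Cotangent
  have H' : ∀ 𝔪 : MaximalSpectrum (P ⧸ I), ∃ x : Fin n → I.Cotangent,
      Submodule.span (P ⧸ I) (Set.range x) ⊔
        𝔪.asIdeal • (⊤ : Submodule (P ⧸ I) I.Cotangent) = ⊤ := ?_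
  obtain ⟨z, hz⟩ := exists_generators_of_semilocal (R := P ⧸ I) (M := I.Cotangent) n H'
  · choose w hw using fun k => I.toCotangent_surjective (z k)
    refine ⟨fun k => (w k : P), fun k => (w k).2, ?_⟩
    intro c hc
    have h1 : I.toCotangent ⟨c, hc⟩ ∈
        (Submodule.span (P ⧸ I) (Set.range z)).restrictScalars P := by
      rw [hz]
      trivial
    rw [Submodule.restrictScalars_span P (P ⧸ I) Ideal.Quotient.mk_surjective] at h1
    have h3 : Set.range z = I.toCotangent '' (Set.range w) := by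
      rw [← Set.range_comp]
      congr 1
      ext k
      exact (hw k).symm
    rw [h3, ← Submodule.map_span] at h1
    obtain ⟨v, hv, hvc⟩ := h1
    have h4 : ((v : P) - c) ∈ I ^ 2 := (I.toCotangent_eq (x := v) (y := ⟨c, hc⟩)).mp hvc
    have h5 : (v : P) ∈ Ideal.span (Set.range fun k => (w k : P)) := by
      have h6 : Submodule.map I.subtype (Submodule.span P (Set.range w)) =
          Submodule.span P (Set.range fun k => (w k : P)) := by
        rw [Submodule.map_span, ← Set.range_comp]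
        rfl
      rw [Ideal.span, ← h6]
      exact ⟨v, hv, rfl⟩
    have h6 : c = (v : P) + (-((v : P) - c)) := by ring
    rw [h6]
    exact Submodule.add_mem_sup h5 (neg_mem h4)
  · intro 𝔪
    obtain ⟨ys, hys, g, hg, Hg⟩ := H 𝔪.asIdeal 𝔪.isMaximal
    refine ⟨fun k => I.toCotangent ⟨ys k, hys k⟩, ?_⟩
    rw [_root_.eq_top_iff]
    intro m _
    obtain ⟨⟨c, hc⟩, rfl⟩ := I.toCotangent_surjective m
    obtain ⟨a', b', hb', hab⟩ := 𝔪.isMaximal.exists_inv hg
    obtain ⟨a, rfl⟩ := Ideal.Quotient.mk_surjective a'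
    have h1 : I.toCotangent ⟨c, hc⟩ =
        (Ideal.Quotient.mk I a * Ideal.Quotient.mk I g) • I.toCotangent ⟨c, hc⟩ +
          b' • I.toCotangent ⟨c, hc⟩ := by
      rw [← add_smul, hab, one_smul]
    rw [h1]
    apply Submodule.add_mem_sup
    · have hmem : a * (g * c) ∈ I := I.mul_mem_left _ (I.mul_mem_left _ hc)
      have h2 : (Ideal.Quotient.mk I a * Ideal.Quotient.mk I g) • I.toCotangent ⟨c, hc⟩ =
          I.toCotangent ⟨a * (g * c), hmem⟩ := by
        rw [← map_mul, ← Ideal.Quotient.algebraMap_eq, algebraMap_smul, ← map_smul]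
        congr 1
        ext
        simp [mul_assoc]
      rw [h2]
      have h3 : a * (g * c) ∈ Ideal.span (Set.range ys) := Ideal.mul_mem_left _ _ (Hg c hc)
      have h4 : (⟨a * (g * c), hmem⟩ : I) ∈
          Submodule.span P (Set.range fun k => (⟨ys k, hys k⟩ : I)) := by
        have h5 : Submodule.map I.subtype
            (Submodule.span P (Set.range fun k => (⟨ys k, hys k⟩ : I))) =
            Ideal.span (Set.range ys) := by
          rw [Submodule.map_span, ← Set.range_comp]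
          rfl
        rw [← h5] at h3
        obtain ⟨v, hv, hv2⟩ := h3
        have h6 : v = ⟨a * (g * c), hmem⟩ := Subtype.ext hv2
        rw [← h6]
        exact hv
      have h5 := Submodule.mem_map_of_mem (f := I.toCotangent) h4
      rw [Submodule.map_span, ← Set.range_comp] at h5
      exact Submodule.span_le_restrictScalars P (P ⧸ I) _ h5
    · exact Submodule.smul_mem_smul hb' Submodule.mem_top

theorem exists_unit_mod (hfg : I.FG) (J : Ideal P) (h : I ≤ J ⊔ I ^ 2) :
    ∃ r : P, r - 1 ∈ I ∧ ∀ c ∈ I, r * c ∈ J := by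
  let N : Submodule P (P ⧸ J) := Submodule.map J.mkQ I
  have hNfg : N.FG := Submodule.FG.map _ hfg
  have hle : N ≤ I • N := by
    rintro _ ⟨c, hc, rfl⟩
    obtain ⟨j, hj, t, ht, rfl⟩ := Submodule.mem_sup.mp (h hc)
    have h0 : J.mkQ (j + t) = J.mkQ t := by
      rw [map_add]
      have : J.mkQ j = 0 := (Submodule.Quotient.mk_eq_zero J).mpr hj
      rw [this, zero_add]
    rw [h0]
    rw [pow_two] at ht
    have ht' : t ∈ I • (I : Submodule P P) := ht
    refine Submodule.smul_induction_on (p := fun t => J.mkQ t ∈ I • N) ht' ?_ ?_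
    · intro a ha b hb
      have h1 : J.mkQ (a • b) = a • J.mkQ b := map_smul _ _ _
      show J.mkQ (a • b) ∈ I • N
      rw [h1]
      exact Submodule.smul_mem_smul ha ⟨b, hb, rfl⟩
    · intro x y hx hy
      show J.mkQ (x + y) ∈ I • N
      rw [map_add]
      exact add_mem hx hy
  obtain ⟨r, hr1, hr⟩ :=
    Submodule.exists_sub_one_mem_and_smul_eq_zero_of_fg_of_le_smul I N hNfg hle
  refine ⟨r, hr1, fun c hc => ?_⟩
  have h2 := hr (J.mkQ c) ⟨c, hc, rfl⟩
  rw [← map_smul, smul_eq_mul] at h2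
  exact (Submodule.Quotient.mk_eq_zero J).mp h2

end Cot

end Groth.Agent.H8.RGCI
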