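import Mathlib
import Groth.Prelude
import Groth.Agent.Lib.Helper8.RGCI.Fin8954A

set_option autoImplicit false
set_option linter.style.haveILetI false

universe u

open TensorProduct Algebra MvPolynomial

namespace Groth.Agent.H8.RGCI

open Groth.Agent.H6 Groth.Agent.H8.LCI Groth.Agent.H8.CILocal Groth.Agent.H8.Synt Groth.Agent.H8.GCI

section Aux

theorem height_add_quotDim_le_zero {T : Type*} [CommRing T] (Q : Ideal T) [Q.IsPrime]
    (h : ringKrullDim T ≤ 0) : (Q.height : WithBot ℕ∞) + quotDim T Q ≤ 0 := by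
  have hht : (Q.height : WithBot ℕ∞) ≤ 0 :=
    (Ideal.height_le_ringKrullDim_of_ne_top (Ideal.IsPrime.ne_top inferInstance)).trans h
  have hqd : quotDim T Q ≤ 0 := by
    unfold quotDim
    exact (ringKrullDim_quotient_le Q).trans h
  calc (Q.height : WithBot ℕ∞) + quotDim T Q ≤ 0 + 0 := add_le_add hht hqd
    _ = 0 := add_zero 0

end Aux

section Local

variable {A : Type u} [CommRing A]

/-- local generation of the kernel by exactly `n` elements, for a finite syntomic quotient of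
`A[x₁,…,xₙ]`. -/
theorem exists_local_gens (n : ℕ) (I : Ideal (MvPolynomial (Fin n) A)) (hfg : I.FG)
    [Module.Finite A (MvPolynomial (Fin n) A ⧸ I)]
    (h : Synt.IsSyntomic A (MvPolynomial (Fin n) A ⧸ I))
    (q' : Ideal (MvPolynomial (Fin n) A ⧸ I)) [q'.IsPrime] :
    ∃ ys : List (MvPolynomial (Fin n) A), ys.length = n ∧ (∀ y ∈ ys, y ∈ I) ∧
      ∃ g : MvPolynomial (Fin n) A, Ideal.Quotient.mk I g ∉ q' ∧
        ∀ c ∈ I, g * c ∈ Ideal.ofList ys := by
  obtain ⟨Q, hQprime, hQ⟩ := exists_fiber_prime (R := A) q'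
  haveI : q'.LiesOver (q'.comap (algebraMap A (MvPolynomial (Fin n) A ⧸ I))) := ⟨rfl⟩
  have e : (MvPolynomial (Fin n) A ⧸ I) ≃ₐ[MvPolynomial (Fin n) A ⧸ I]
      Localization.Away (1 : MvPolynomial (Fin n) A ⧸ I) := IsLocalization.atOne _ _
  have h1 : Synt.IsSyntomic A (Localization.Away (1 : MvPolynomial (Fin n) A ⧸ I)) :=
    isSyntomic_of_algEquiv (e.restrictScalars A) h
  obtain ⟨-, hflat, hci⟩ := local_of_isSyntomic
    (q'.comap (algebraMap A (MvPolynomial (Fin n) A ⧸ I))) q' Q hQ 1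
    (fun h1q => (Ideal.IsPrime.ne_top inferInstance) ((Ideal.eq_top_iff_one _).mpr h1q)) h1
  set p : Ideal A := q'.comap (algebraMap A (MvPolynomial (Fin n) A ⧸ I)) with hp
  let eT : p.Fiber (MvPolynomial (Fin n) A) ≃ₐ[p.ResidueField]
      MvPolynomial (Fin n) p.ResidueField :=
    MvPolynomial.algebraTensorAlgEquiv A p.ResidueField (σ := Fin n)
  haveI : IsRegularRing (p.Fiber (MvPolynomial (Fin n) A)) :=
    IsRegularRing.of_ringEquiv eT.symm.toRingEquiv
  haveI : IsDomain (p.Fiber (MvPolynomial (Fin n) A)) :=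
    eT.toRingEquiv.toMulEquiv.isDomain _
  have hdimP : ringKrullDim (p.Fiber (MvPolynomial (Fin n) A)) = (n : WithBot ℕ∞) := by
    rw [ringKrullDim_eq_of_ringEquiv
      (R := p.ResidueField ⊗[A] (MvPolynomial (Fin n) A))
      (S := MvPolynomial (Fin n) p.ResidueField) eT.toRingEquiv]
    exact Groth.Agent.H2.DimFG.ringKrullDim_mvPolynomial_fin p.ResidueField n
  obtain ⟨ys, hys, ⟨g, hg, Hg⟩, hle, hdim⟩ :=
    exists_gens_and_dim I p Q n hdimP hfg q' hQ hci
  refine ⟨ys, ?_, hys, g, hg, Hg⟩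
  -- the fibre is of dimension `0`
  have hd0 : ringKrullDim (p.Fiber (MvPolynomial (Fin n) A ⧸ I)) ≤ 0 := by
    have h1 := Groth.Agent.H1.Chev.ringKrullDim_le_of_quasiFinite p.ResidueField
      (p.ResidueField ⊗[A] (MvPolynomial (Fin n) A ⧸ I))
    rw [ringKrullDim_eq_zero_of_field] at h1
    exact h1
  have hsum0 := height_add_quotDim_le_zero (T := p.Fiber (MvPolynomial (Fin n) A ⧸ I)) Q hd0
  have hsum : (((n - ys.length : ℕ) : ℕ) : WithBot ℕ∞) ≤ 0 :=
    le_trans (le_of_eq hdim.symm) hsum0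
  have h2 : n - ys.length ≤ 0 := by exact_mod_cast hsum
  omega

end Local

section Main

variable (A B : Type u) [CommRing A] [CommRing B] [Algebra A B]

theorem exists_sq_presentation_of_isSyntomic [IsLocalRing A] [Module.Finite A B]
    (h : Synt.IsSyntomic A B) :
    ∃ (n : ℕ) (F : Fin n → MvPolynomial (Fin n) A),
      Nonempty (B ≃ₐ[A] Synt.RelGCIRing A n n F) := by
  obtain ⟨hflat, hfp, hfib⟩ := h
  obtain ⟨n, φ, hφ, hfg⟩ := Algebra.FinitePresentation.out (R := A) (A := B)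
  set I : Ideal (MvPolynomial (Fin n) A) := RingHom.ker φ.toRingHom with hI
  let e₀ : (MvPolynomial (Fin n) A ⧸ I) ≃ₐ[A] B := Ideal.quotientKerAlgEquivOfSurjective hφ
  haveI : Module.Finite A (MvPolynomial (Fin n) A ⧸ I) :=
    Module.Finite.equiv e₀.symm.toLinearEquiv
  have hS : Synt.IsSyntomic A (MvPolynomial (Fin n) A ⧸ I) :=
    isSyntomic_of_algEquiv e₀.symm ⟨hflat, hfp, hfib⟩
  haveI := finite_maximalSpectrum_of_finite A (MvPolynomial (Fin n) A ⧸ I)
  obtain ⟨f, hf, hle⟩ := exists_gens_mod_sq I hfg n (fun q' hq' => by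
    haveI := hq'.isPrime
    obtain ⟨ys, hlen, hys, g, hg, Hg⟩ := exists_local_gens n I hfg hS q'
    refine ⟨fun k => ys.get (k.cast hlen.symm), fun k => hys _ (List.get_mem _ _), g, hg, ?_⟩
    intro c hc
    have h1 := Hg c hc
    rw [ofList_eq_span_range_get] at h1
    have h2 : Set.range (fun k : Fin n => ys.get (k.cast hlen.symm)) = Set.range ys.get := by
      ext y
      constructor
      · rintro ⟨k, rfl⟩
        exact ⟨_, rfl⟩
      · rintro ⟨k, rfl⟩
        exact ⟨k.cast hlen, by simp⟩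
    rw [h2]
    exact h1)
  obtain ⟨r, hr1, hr⟩ := exists_unit_mod I hfg (Ideal.span (Set.range f)) hle
  have hys : ∀ y ∈ List.ofFn f, y ∈ I := by
    intro y hy
    obtain ⟨k, rfl⟩ := (List.mem_ofFn' f y).mp hy
    exact hf k
  have hG : ∀ x ∈ I, r * x ∈ Ideal.ofList (List.ofFn f) := by
    intro x hx
    rw [ofList_ofFn']
    exact hr x hx
  obtain ⟨ε⟩ := nonempty_algEquiv_away_relS I (List.ofFn f) hys r hG
  have hunit : Ideal.Quotient.mk I r = 1 := by
    rw [← sub_eq_zero, ← map_one (Ideal.Quotient.mk I), ← map_sub,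
      Ideal.Quotient.eq_zero_iff_mem]
    exact hr1
  let e₁ : (MvPolynomial (Fin n) A ⧸ I) ≃ₐ[MvPolynomial (Fin n) A ⧸ I]
      Localization.Away (Ideal.Quotient.mk I r) :=
    IsLocalization.atUnits _ (Submonoid.powers (Ideal.Quotient.mk I r)) (by
      rintro _ ⟨k, rfl⟩
      show IsUnit ((Ideal.Quotient.mk I r) ^ k)
      rw [hunit, one_pow]
      exact isUnit_one)
  have key : ∀ (c : ℕ) (_ : c = n) (F : Fin (c + 1) → MvPolynomial (Fin (n + 1)) A),
      Nonempty (B ≃ₐ[A] Synt.RelGCIRing A (n + 1) (c + 1) F) →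
      ∃ (n' : ℕ) (F' : Fin n' → MvPolynomial (Fin n') A),
        Nonempty (B ≃ₐ[A] Synt.RelGCIRing A n' n' F') := by
    rintro c rfl F hF
    exact ⟨c + 1, F, hF⟩
  exact key _ (List.length_ofFn) _ ⟨(e₀.symm.trans (e₁.restrictScalars A)).trans ε⟩

theorem isSyntomic_of_sq_presentation [Module.Finite A B] (n : ℕ)
    (F : Fin n → MvPolynomial (Fin n) A) (e : B ≃ₐ[A] Synt.RelGCIRing A n n F) :
    Synt.IsSyntomic A B := by
  haveI : Module.Finite A (Synt.RelGCIRing A n n F) := Module.Finite.equiv e.toLinearEquiv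
  have hrel : Synt.IsRelGCI A n n F := by
    intro p hnt
    refine ⟨le_rfl, ?_⟩
    rw [Nat.sub_self]
    apply le_antisymm
    · have h1 := Groth.Agent.H1.Chev.ringKrullDim_le_of_quasiFinite p.asIdeal.ResidueField
        (p.asIdeal.ResidueField ⊗[A] Synt.RelGCIRing A n n F)
      rw [ringKrullDim_eq_zero_of_field] at h1
      exact_mod_cast h1
    · have := ringKrullDim_nonneg_of_nontrivial
        (R := p.asIdeal.Fiber (Synt.RelGCIRing A n n F))
      exact_mod_cast this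
  exact isSyntomic_of_algEquiv e.symm (isSyntomic_of_isRelGCI F hrel)

theorem main8954 [IsLocalRing A] [Module.Finite A B] :
    Synt.IsSyntomic A B ↔ ∃ (n : ℕ) (F : Fin n → MvPolynomial (Fin n) A),
      Nonempty (B ≃ₐ[A] Synt.RelGCIRing A n n F) :=
  ⟨exists_sq_presentation_of_isSyntomic A B,
    fun ⟨n, F, ⟨e⟩⟩ => isSyntomic_of_sq_presentation A B n F e⟩

end Main

end Groth.Agent.H8.RGCI
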