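import Mathlib
import Groth.Prelude
import Groth.Agent.Lib.Helper8.RGCI.Main9254
import Groth.Agent.Lib.Helper5.KosCot.A

set_option autoImplicit false
set_option linter.style.haveILetI false

universe u

open TensorProduct Algebra MvPolynomial RingTheory.Sequence

namespace Groth.Agent.H8.RGCI

open Groth.Agent.H8.LCI

theorem main9170 (R : Type u) [CommRing R] (n c : ℕ)
    (F : Fin c → MvPolynomial (Fin n) R) (h : Synt.IsRelGCI R n c F)
    (q' : Ideal (MvPolynomial (Fin n) R)) [q'.IsPrime] (hq' : Ideal.span (Set.range F) ≤ q') :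
    RingTheory.Sequence.IsRegular (Localization.AtPrime q')
        ((List.ofFn F).map (algebraMap (MvPolynomial (Fin n) R) (Localization.AtPrime q'))) ∧
      (∀ i ≤ c, Module.Flat R (Localization.AtPrime q' ⧸ Ideal.ofList
        (((List.ofFn F).take i).map (algebraMap (MvPolynomial (Fin n) R) (Localization.AtPrime q'))))) ∧
      LinearIndependent (Synt.RelGCIRing R n c F)
        (fun i : Fin c => (Ideal.span (Set.range F)).toCotangent ⟨F i, Ideal.subset_span (Set.mem_range_self i)⟩) ∧
      Submodule.span (Synt.RelGCIRing R n c F) (Set.range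
        (fun i : Fin c => (Ideal.span (Set.range F)).toCotangent ⟨F i, Ideal.subset_span (Set.mem_range_self i)⟩)) = ⊤ := by
  have hfib := isRegular_fibLoc_of_isRelGCI F h q' hq'
  have hloc := (exists_away_and_local_of_fibre (A := R) q' (List.ofFn F) hfib.toIsWeaklyRegular).2
  have hflat := flat_quot_of_fibre (A := R) q' (List.ofFn F) hfib.toIsWeaklyRegular
  obtain ⟨b, hb⟩ := Groth.Agent.Lib.Helper5.KosCot.main (I := Ideal.span (Set.range F)) c
    (fun i => ⟨F i, Ideal.subset_span (Set.mem_range_self i)⟩)
    (isKoszulRegularSeq_of_isRelGCI F h) rfl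
  have hbeq : (fun i : Fin c => (Ideal.span (Set.range F)).toCotangent
      ⟨F i, Ideal.subset_span (Set.mem_range_self i)⟩) = b := by
    funext i
    exact (hb i).symm
  refine ⟨⟨hloc, ?_⟩, ?_, ?_, ?_⟩
  · rw [smul_eq_mul, Ideal.mul_top, ← Ideal.map_ofList]
    intro htop
    have h1 : (Ideal.ofList (List.ofFn F)).map (algebraMap (MvPolynomial (Fin n) R)
        (Localization.AtPrime q')) ≤ IsLocalRing.maximalIdeal (Localization.AtPrime q') := by
      rw [← Localization.AtPrime.map_eq_maximalIdeal]
      apply Ideal.map_mono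
      refine le_trans ?_ hq'
      apply Ideal.span_mono
      intro x hx
      exact (mem_ofFn_iff F x).mp hx
    rw [← htop] at h1
    exact (IsLocalRing.maximalIdeal.isMaximal _).ne_top (top_le_iff.mp h1)
  · intro i hi
    have := hflat i (by rw [List.length_ofFn]; exact hi)
    rwa [Ideal.map_ofList] at this
  · rw [hbeq]
    exact b.linearIndependent
  · rw [hbeq]
    exact b.span_eq

end Groth.Agent.H8.RGCI
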